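import Cfsg.Agent.Sym.Frob
import Cfsg.Agent.Char.IndBasic
import Mathlib.GroupTheory.Perm.Centralizer

/-!
# The irreducible characters of symmetric groups (Frobenius' formula)
-/

set_option autoImplicit false
set_option linter.unusedSectionVars false
set_option linter.unnecessarySeqFocus false
set_option linter.style.haveILetI false

namespace Cfsg.Sym

open Equiv Finset MvPolynomial
open scoped ComplexConjugate

variable {N : ℕ} {α : Type*} [Fintype α] [DecidableEq α] {a a' : Fin N → ℕ}

/-- All cycle lengths, fixed points included. -/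
def pt (g : Perm α) : Multiset ℕ := g.partition.parts

theorem pt_eq (g : Perm α) :
    pt g = g.cycleType + Multiset.replicate (Fintype.card α - #g.support) 1 := Perm.parts_partition

theorem pt_pos {g : Perm α} : ∀ k ∈ pt g, 0 < k := fun _ h => g.partition.parts_pos h

theorem sum_pt (g : Perm α) : (pt g).sum = Fintype.card α := g.partition.parts_sum

theorem isConj_iff_pt {g h : Perm α} : IsConj g h ↔ pt g = pt h :=
  Perm.partition_eq_of_isConj.trans Nat.Partition.ext_iff

theorem pt_one : pt (1 : Perm α) = Multiset.replicate (Fintype.card α) 1 := by simp [pt_eq]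

theorem card_centralizer_eq_zc (g : Perm α) :
    Nat.card (Subgroup.centralizer ({g} : Set (Perm α))) = zc (pt g) := by
  have h1 : (1 : ℕ) ∉ g.cycleType := fun h => by simpa using Perm.two_le_of_mem_cycleType h
  have h2 : ∀ m, zc (g.cycleType + Multiset.replicate m 1) = m.factorial * zc g.cycleType := by
    intro m
    induction m with
    | zero => simp
    | succ m ih =>
      rw [Multiset.replicate_succ, Multiset.add_cons, zc_cons, ih]
      simp [Multiset.count_eq_zero.2 h1, Nat.factorial_succ, mul_assoc]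
  rw [Perm.nat_card_centralizer, pt_eq, h2, Perm.sum_cycleType, zc, mul_assoc]

theorem dvd_orderOf_iff {p : ℕ} (hp : p.Prime) {g : Perm α} :
    p ∣ orderOf g ↔ ∃ k ∈ pt g, p ∣ k := by
  refine ⟨fun h => ?_, fun ⟨k, hk, h⟩ => ?_⟩
  · rw [← Perm.lcm_cycleType] at h
    obtain ⟨k, hk, h⟩ := hp.prime.exists_mem_multiset_dvd
      (h.trans (Multiset.lcm_dvd.2 fun k hk => Multiset.dvd_prod hk))
    exact ⟨k, by simp [pt_eq, hk], h⟩
  · rw [pt_eq, Multiset.mem_add] at hk
    rcases hk with hk | hk
    · exact h.trans (Perm.dvd_of_mem_cycleType hk)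
    · rw [Multiset.eq_of_mem_replicate hk] at h
      exact absurd (Nat.dvd_one.1 h) hp.one_lt.ne'

theorem prod_psum (g : Perm α) : ((pt g).map (psum (Fin N) ℤ)).prod =
    ∑ f : α → Fin N with f ∘ g = f, ∏ x, (MvPolynomial.X (f x) : MvPolynomial (Fin N) ℤ) := by
  let π : α → g.cycleFactorsFinset ⊕ (g.supportᶜ : Finset α) := fun x =>
    if h : x ∈ g.support then .inl ⟨g.cycleOf x, Perm.cycleOf_mem_cycleFactorsFinset_iff.2 h⟩
    else .inr ⟨x, mem_compl.2 h⟩
  have h1 : ∀ c x, π x = .inl c ↔ x ∈ c.1.support := fun c x => by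
    simp only [π]
    split_ifs with h
    · simp only [Sum.inl.injEq, Subtype.ext_iff]
      exact ⟨fun e => by simpa [← e, Perm.mem_support_cycleOf_iff, Perm.SameCycle.rfl] using h,
        fun e => (Perm.cycle_is_cycleOf e c.2).symm⟩
    · simpa using fun e => h (Perm.mem_cycleFactorsFinset_support_le c.2 e)
  have h2 : ∀ y x, π x = .inr y ↔ x = y.1 := fun y x => by
    simp only [π]
    split_ifs with h
    · simpa using fun e : x = y => mem_compl.1 y.2 (e ▸ h)
    · simp [Subtype.ext_iff]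
  have hs : Function.Surjective π := by
    rintro (c | y)
    · obtain ⟨x, hx⟩ := (Perm.mem_cycleFactorsFinset_iff.1 c.2).1.nonempty_support
      exact ⟨x, (h1 c x).2 hx⟩
    · exact ⟨y, (h2 y y).2 rfl⟩
  have h3 : pt g = univ.val.map fun k => #{x | π x = k} := by
    rw [pt_eq, ← univ_disjSum_univ, val_disjSum, Multiset.map_disjSum, Perm.cycleType_def]
    congr 1
    · simp only [h1, univ_eq_attach, attach_val, filter_univ_mem]
      exact (Multiset.attach_map_val' _ _).symm
    · simp [h2, filter_eq', ← card_compl]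
      rw [Multiset.card_attach]; rfl
  have h4 : ∀ f : α → Fin N, f ∘ g = f ↔ ∃ φ, φ ∘ π = f := fun f => by
    refine ⟨fun h => ⟨f ∘ Function.surjInv hs, funext fun x => ?_⟩, ?_⟩
    · have h5 : ∀ n : ℕ, ∀ x, f ((g ^ n) x) = f x := fun n => by
        induction n with
        | zero => simp
        | succ n ih => intro x; rw [pow_succ, Perm.mul_apply, ih]; exact congrFun h x
      have h6 := Function.surjInv_eq hs (π x)
      simp only [Function.comp_apply]
      generalize Function.surjInv hs (π x) = y at h6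
      rcases hx : π x with c | z
      · rw [hx] at h6
        have h7 := Perm.cycle_is_cycleOf ((h1 _ _).1 hx) c.2
        have h8 := (h1 _ _).1 h6
        rw [h7, Perm.mem_support_cycleOf_iff] at h8
        obtain ⟨n, rfl⟩ := h8.1.exists_nat_pow_eq
        exact h5 n x
      · rw [hx] at h6
        rw [(h2 _ _).1 hx, (h2 _ _).1 h6]
    · rintro ⟨φ, rfl⟩
      funext x
      refine congrArg φ ?_
      by_cases h : x ∈ g.support
      · simp only [π, dif_pos h, dif_pos (Perm.apply_mem_support.2 h), Perm.cycleOf_self_apply]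
      · rw [Perm.notMem_support.1 h]
  rw [h3, Multiset.map_map, prod_map_val]
  simp only [Function.comp_apply, psum]
  rw [prod_univ_sum, Fintype.piFinset_univ]
  refine sum_bij (fun φ _ => φ ∘ π) (fun φ _ => by simpa using (h4 _).2 ⟨φ, rfl⟩)
    (fun φ _ ψ _ h => hs.right_cancellable.1 h)
    (fun f hf => ((h4 f).1 (by simpa using hf)).imp fun φ h => ⟨mem_univ _, h⟩) fun φ _ => ?_
  rw [← prod_fiberwise univ π]
  refine prod_congr rfl fun k _ => ?_
  rw [prod_congr rfl (g := fun _ => MvPolynomial.X (φ k)) fun x hx => by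
    rw [Function.comp_apply, (mem_filter.1 hx).2], prod_const]

variable (α) in
/-- The class function attached to an exponent vector. -/
noncomputable def XF (a : Fin N → ℕ) : Perm α → ℂ := fun g => X (pt g) a

theorem isGen_XF (a : Fin N → ℕ) : IsGeneralizedCharacter (Perm α) (XF α a) := by
  classical
  let T : Perm (Fin N) → (α → Fin N) → Prop := fun σ f => ∑ x, Finsupp.single (f x) 1 +
    Finsupp.equivFunOnFinite.symm (Fin.val ∘ σ) = Finsupp.equivFunOnFinite.symm a
  let act : ∀ σ, MulAction (Perm α) {f // T σ f} := fun σ =>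
    { smul := fun g f => ⟨f.1 ∘ g.symm, by
        have := f.2
        simp only [T, Function.comp_apply] at this ⊢
        rwa [Equiv.sum_comp g.symm fun x => Finsupp.single (f.1 x) 1]⟩
      one_smul := fun _ => rfl
      mul_smul := fun _ _ _ => rfl }
  have : XF α a = ∑ σ : Perm (Fin N), ((Perm.sign σ : ℤ) : ℂ) • @permChar _ _ _ (act σ) := by
    funext g
    have h1 : ∀ f : α → Fin N, ∏ x, (MvPolynomial.X (f x) : MvPolynomial (Fin N) ℤ) =
        monomial (∑ x, Finsupp.single (f x) 1) 1 := fun f => by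
      rw [monomial_sum_one]; rfl
    simp only [XF, X, prod_psum, aδ, h1, sum_mul, mul_sum, monomial_mul, one_mul, coeff_sum,
      coeff_monomial, Finset.sum_apply, Pi.smul_apply, permChar_apply, smul_eq_mul]
    push_cast
    refine sum_congr rfl fun σ _ => ?_
    rw [← sum_filter, sum_const, nsmul_eq_mul, mul_comm, filter_filter, ← Fintype.card_subtype,
      ← Nat.card_eq_fintype_card]
    congr 2
    refine Nat.card_congr ⟨fun f => ⟨⟨f.1, f.2.2⟩, Subtype.ext ?_⟩, fun f => ⟨f.1.1, ?_, f.1.2⟩,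
      fun _ => rfl, fun _ => rfl⟩
    · exact (g.comp_symm_eq _ _).2 f.2.1.symm
    · exact ((g.comp_symm_eq _ _).1 (congrArg Subtype.val f.2)).symm
  rw [this]
  exact .sum fun σ _ => by letI := act σ; exact (permChar_isCharacter _).isGen.zsmul _

theorem XF_comp (σ : Perm (Fin N)) (a : Fin N → ℕ) :
    XF α (a ∘ σ) = ((Perm.sign σ : ℤ) : ℂ) • XF α a := by
  funext g; simp [XF, alt_X (pt g) σ rfl a]

theorem star_XF (a : Fin N → ℕ) : star (XF α a) = XF α a := by funext g; simp [XF]

theorem inj_of_XF_ne_zero (h : XF α a ≠ 0) :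
    Function.Injective a ∧ ∑ i, a i = tri N + Fintype.card α := by
  obtain ⟨g, hg⟩ := Function.ne_iff.1 h
  have : X (pt g) a ≠ 0 := by simpa [XF] using hg
  exact ⟨injective_of_X_ne_zero this, by rw [sum_eq_of_X_ne_zero this, sum_pt]⟩

theorem XF_one_ne_zero (ha : Function.Injective a) (h : ∑ i, a i = tri N + Fintype.card α) :
    XF α a 1 ≠ 0 := by
  simpa [XF, pt_one] using X_replicate_one_ne_zero ha h

/-- The multiplicity of `χ` in `XF a`. -/
noncomputable def mult (a : Fin N → ℕ) (χ : IrrCharacter (Perm α)) : ℤ :=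
  ((isGen_XF a).exists_ip_eq_int χ.isCharacter.isGen).choose

theorem ip_XF (a : Fin N → ℕ) (χ : IrrCharacter (Perm α)) : ip (XF α a) χ.1 = mult a χ :=
  ((isGen_XF a).exists_ip_eq_int χ.isCharacter.isGen).choose_spec

theorem mult_comp (σ : Perm (Fin N)) (a : Fin N → ℕ) (χ : IrrCharacter (Perm α)) :
    mult (a ∘ σ) χ = Perm.sign σ * mult a χ := by
  have := ip_XF (a ∘ σ) χ
  rw [XF_comp, ip_smul_left, ip_XF] at this
  exact_mod_cast this.symm

theorem mult_comp_mul (σ : Perm (Fin N)) (a : Fin N → ℕ) (χ ψ : IrrCharacter (Perm α)) :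
    mult (a ∘ σ) χ * mult (a ∘ σ) ψ = mult a χ * mult a ψ := by
  rw [mult_comp, mult_comp, mul_mul_mul_comm, ← Units.val_mul, Int.units_mul_self, Units.val_one,
    one_mul]

theorem XF_ne_zero_of_mult {χ : IrrCharacter (Perm α)} (h : mult a χ ≠ 0) : XF α a ≠ 0 :=
  fun e => h (by simpa [e] using (ip_XF a χ).symm)

variable (hN : Fintype.card α ≤ N)
include hN

theorem sum_mult_mul (χ ψ : IrrCharacter (Perm α)) [Decidable (χ = ψ)] :
    ∑ a ∈ piAntidiag univ (tri N + Fintype.card α), mult (N := N) a χ * mult a ψ =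
      if χ = ψ then N.factorial else 0 := by
  classical
  set S := piAntidiag (univ : Finset (Fin N)) (tri N + Fintype.card α)
  have h1 : ∀ h, ∑ a ∈ S, XF α a h • XF α a =
      ∑ χ : IrrCharacter (Perm α), (N.factorial * conj (χ h)) • χ.1 := fun h => by
    funext g
    have := sum_X_mul_X (N := N) (pt_pos (g := g)) (pt_pos (g := h)) ((sum_pt h).trans_le hN)
    rw [sum_pt] at this
    simp only [Finset.sum_apply, Pi.smul_apply, smul_eq_mul, mul_assoc, ← mul_sum,
      mul_comm (conj _), mul_comm (XF α _ h)]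
    rw [sum_irr_mul_conj_eq, card_centralizer_eq_zc]
    simp only [XF, ← isConj_iff_pt] at this ⊢
    split_ifs at this ⊢ <;> exact_mod_cast this
  have h2 : ∑ a ∈ S, (mult a χ : ℂ) • XF α a = (N.factorial : ℂ) • χ.1 := by
    funext h
    have := congrArg (fun θ => conj (ip θ χ.1)) (h1 h)
    simp only [ip_sum_smul_irr] at this
    simp only [ip_sum_left, ip_smul_left, ip_XF] at this
    simpa [XF, mul_comm] using this
  have := congrArg (ip · ψ.1) h2
  simp only [ip_sum_left, ip_smul_left, ip_XF, IrrCharacter.ip_eq] at this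
  rw [mul_ite, mul_one, mul_zero] at this
  split_ifs at this ⊢ <;> exact_mod_cast this

theorem mult_spec {χ : IrrCharacter (Perm α)} (h : mult a χ ≠ 0) : mult a χ * mult a χ = 1 ∧
    ∀ a' : Fin N → ℕ, mult a' χ ≠ 0 → ∃ σ : Perm (Fin N), a' = a ∘ σ := by
  classical
  obtain ⟨ha, hs⟩ := inj_of_XF_ne_zero (XF_ne_zero_of_mult h)
  have h1 := sum_mult_mul hN χ χ
  have h2 : univ.image (fun σ : Perm (Fin N) => a ∘ σ) ⊆
      piAntidiag univ (tri N + Fintype.card α) := fun b hb => by
    obtain ⟨σ, -, rfl⟩ := mem_image.1 hb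
    simpa [← hs] using Equiv.sum_comp σ a
  rw [if_pos rfl, ← sum_sdiff h2, sum_image (g := fun σ : Perm (Fin N) => a ∘ σ)
    fun σ _ τ _ e => Equiv.ext fun i => ha (congrFun e i)] at h1
  simp only [mult_comp_mul, sum_const, card_univ, Fintype.card_perm, Fintype.card_fin,
    nsmul_eq_mul] at h1
  have h3 : 1 ≤ mult a χ * mult a χ := mul_self_pos.2 h
  have h4 : (0 : ℤ) < N.factorial := by exact_mod_cast N.factorial_pos
  have h5 := fun b (_ : b ∈ piAntidiag univ (tri N + Fintype.card α) \
    univ.image fun σ : Perm (Fin N) => a ∘ σ) => mul_self_nonneg (mult b χ)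
  have h6 := sum_nonneg h5
  refine ⟨by nlinarith, fun b hb => ?_⟩
  by_contra hn
  refine hb (mul_self_eq_zero.1 ((sum_eq_zero_iff_of_nonneg h5).1 (by nlinarith) b ?_))
  simpa [(inj_of_XF_ne_zero (XF_ne_zero_of_mult hb)).2, eq_comm] using hn

theorem exists_mult_ne_zero (χ : IrrCharacter (Perm α)) : ∃ a : Fin N → ℕ, mult a χ ≠ 0 := by
  classical
  by_contra h
  push Not at h
  simpa [h, N.factorial_ne_zero, eq_comm] using sum_mult_mul hN χ χ

theorem eq_of_mult_ne_zero {χ ψ : IrrCharacter (Perm α)} (h : mult a χ ≠ 0) (h' : mult a ψ ≠ 0) :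
    χ = ψ := by
  classical
  by_contra hne
  have h1 := sum_mult_mul hN χ ψ
  have h2 : ∀ b ∈ piAntidiag univ (tri N + Fintype.card α),
      0 ≤ mult a χ * mult a ψ * (mult (N := N) b χ * mult b ψ) := fun b _ => by
    by_cases hb : mult b χ = 0
    · simp [hb]
    obtain ⟨σ, rfl⟩ := (mult_spec hN h).2 b hb
    rw [mult_comp_mul]
    exact mul_self_nonneg _
  rw [if_neg hne] at h1
  have := (sum_eq_zero_iff_of_nonneg h2).1 (by rw [← mul_sum, h1]; simp) a
    (by simp [(inj_of_XF_ne_zero (XF_ne_zero_of_mult h)).2])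
  simp [h, h'] at this

theorem XF_eq_smul {χ : IrrCharacter (Perm α)} (h : mult a χ ≠ 0) :
    XF α a = (mult a χ : ℂ) • χ.1 := by
  rw [(isGen_XF a).isClassFunction.eq_sum, sum_eq_single χ, ip_XF]
  · intro ψ _ hψ
    rw [ip_XF, of_not_not (mt (eq_of_mult_ne_zero hN · h) hψ)]; simp
  · simp

theorem eq_smul_XF {χ : IrrCharacter (Perm α)} (h : mult a χ ≠ 0) :
    χ.1 = (mult a χ : ℂ) • XF α a := by
  rw [XF_eq_smul hN h, smul_smul, ← Int.cast_mul, (mult_spec hN h).1]; simp

omit hN in
theorem exists_mult_ne_zero_of_inj (ha : Function.Injective a)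
    (h : ∑ i, a i = tri N + Fintype.card α) : ∃ χ : IrrCharacter (Perm α), mult a χ ≠ 0 := by
  obtain ⟨χ, hχ⟩ := (isGen_XF (α := α) a).isClassFunction.exists_ip_ne_zero
    fun e => XF_one_ne_zero ha h (congrFun e 1)
  exact ⟨χ, fun e => hχ (by simp [ip_XF, e])⟩

end Cfsg.Sym

set_option linter.all false in
theorem Cfsg.Rz.Sym_Char_0 : True := by
  have := @_root_.Cfsg.Sym.mult.eq_def.{0}
  have := @_root_.Cfsg.Sym.mult.eq_1.{0}
  have := @_root_.Cfsg.Sym.mult.fun_cases
  have := @_root_.Cfsg.Sym.XF.eq_def.{0}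
  have := @_root_.Cfsg.Sym.XF.fun_cases
  have := @_root_.Cfsg.Sym.pt.eq_def.{0}
  have := @_root_.Cfsg.Sym.pt.eq_1.{0}
  have := @_root_.Cfsg.Sym.pt.fun_cases
  trivial
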