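import Cfsg.Agent.Sym.Comb
import Mathlib.Data.Set.Card.Arithmetic

/-!
# Counting words up to swapping letters
-/

set_option autoImplicit false

namespace Cfsg.Sym

open Finset

theorem two_mul_ncard_image_le {X Y : Type*} {W : Set X} (hW : W.Finite) {σ : X → X}
    (hσ : Set.MapsTo σ W W) {g : X → Y} (hg : ∀ x, g (σ x) = g x) :
    2 * (g '' W).ncard ≤ W.ncard + {x ∈ W | σ x = x}.ncard := by
  classical
  lift W to Finset X using hW
  simp only [mem_coe]
  rw [← coe_image, ← coe_filter, Set.ncard_coe_finset, Set.ncard_coe_finset, Set.ncard_coe_finset,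
    card_eq_sum_card_image g W, card_eq_sum_card_fiberwise (s := W.filter _) (t := W.image g) (f := g)
      fun x hx => mem_image_of_mem g (mem_filter.1 hx).1, ← sum_add_distrib, mul_comm,
      ← smul_eq_mul, ← sum_const]
  refine sum_le_sum fun y hy => ?_
  obtain ⟨x, hx, rfl⟩ := mem_image.1 hy
  by_cases h : σ x = x
  · exact Nat.add_le_add (card_pos.2 ⟨x, by simp [hx]⟩) (card_pos.2 ⟨x, by simp [hx, h]⟩)
  · exact le_add_right (one_lt_card.2 ⟨σ x, by simpa [hg] using hσ hx, x, by simp [hx], h⟩)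

variable {κ : Type*} [DecidableEq κ] {R : Finset κ}

theorem sum_words_bound (m w : ℕ) :
    ∑ j ∈ range (w + 1), (if j = 0 then 1 else m * (m + 1) ^ (j - 1)) = (m + 1) ^ w := by
  induction w with
  | zero => simp
  | succ w ih => rw [sum_range_succ, ih]; simp; ring

theorem words_one_bound (R : Finset κ) (w : ℕ) : (words R 1 w).Finite ∧
    (words R 1 w).ncard ≤ if w = 0 then 1 else #R * (#R + 1) ^ (w - 1) := by
  refine words_finite_ncard_le (m := 1) (fun _ => le_rfl)
    (f := fun w => if w = 0 then 1 else #R * (#R + 1) ^ (w - 1)) (by simp) (fun w hw => ?_) w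
  obtain ⟨w, rfl⟩ := Nat.exists_eq_add_of_le' hw
  simp only [Pi.one_apply, one_mul, sum_const, smul_eq_mul, if_neg w.succ_ne_zero,
    Nat.add_sub_cancel]
  refine Nat.mul_le_mul_left _ (le_of_eq ?_)
  rw [← sum_words_bound]
  refine sum_nbij' (fun k => w + 1 - k) (fun k => w + 1 - k) ?_ ?_ ?_ ?_ fun _ _ => rfl
  all_goals simp only [mem_filter, mem_Icc, mem_range]; intro k hk; omega

/-- Swap the first two letters. -/
def swap2 {X : Type*} : List X → List X
  | x :: y :: l => y :: x :: l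
  | l => l

theorem two_mul_ncard_image_words_lt {Y : Type*} {g : List (κ × ℕ) → Y}
    (hg : ∀ x y l, g (x :: y :: l) = g (y :: x :: l)) {w : ℕ} (hw : 3 ≤ w) :
    2 * (g '' words R 1 w).ncard < (#R + 1) ^ w := by
  obtain ⟨w, rfl⟩ := Nat.exists_eq_add_of_le' (show 1 ≤ w by omega)
  have h1 := two_mul_ncard_image_le (words_one_bound R (w + 1)).1 (σ := swap2) (g := g)
    (by
      rintro (_ | ⟨x, _ | ⟨y, l⟩⟩) h
      · exact h
      · exact h
      · simpa [swap2, words, or_left_comm, add_left_comm] using h)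
    (by rintro (_ | ⟨x, _ | ⟨y, l⟩⟩) <;> simp only [swap2]; exact hg ..)
  have h2 := (words_one_bound R (w + 1)).2
  have h3 : (⋃ j ∈ range (w + 1), words R 1 j).Finite :=
    (range _).finite_toSet.biUnion fun j _ => (words_one_bound R j).1
  have h4 : (⋃ j ∈ range (w + 1), words R 1 j).ncard ≤ (#R + 1) ^ w :=
    (Finset.set_ncard_biUnion_le _ _).trans
      (sum_words_bound #R w ▸ sum_le_sum fun j _ => (words_one_bound R j).2)
  have h5 := Set.ncard_le_ncard_of_injOn (s := {x ∈ words R 1 (w + 1) | swap2 x = x})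
    (fun l => match l with | [x] => [(x.1, 1)] | l => l.tail)
    (t := (⋃ j ∈ range (w + 1), words R 1 j) \ {[]}) ?_ ?_ (h3.subset Set.sdiff_subset)
  · have h6 := Set.ncard_sdiff_singleton_lt_of_mem
      (show [] ∈ ⋃ j ∈ range (w + 1), words R 1 j by simp [words]) h3
    simp only [Nat.add_eq_zero_iff, one_ne_zero, and_false, if_false, Nat.add_sub_cancel] at h2
    rw [pow_succ]
    nlinarith
  · rintro (_ | ⟨x, _ | ⟨y, l⟩⟩) ⟨⟨h5, h6⟩, -⟩
    · simp at h6
    · simpa [words] using ⟨(h5 x (by simp)).1, by omega⟩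
    · have := (h5 x (by simp)).2
      simp only [List.map_cons, List.sum_cons, Pi.one_apply, one_mul] at h6
      simpa [words] using ⟨fun a b h => h5 (a, b) (by simp [h]), by omega⟩
  · rintro (_ | ⟨x, _ | ⟨y, l⟩⟩) ⟨⟨-, h5⟩, h6⟩ (_ | ⟨x', _ | ⟨y', l'⟩⟩) ⟨⟨-, h7⟩, h8⟩ h <;>
      simp [swap2, Prod.ext_iff] at h5 h6 h7 h8 h ⊢
    · exact ⟨h, h5.trans h7.symm⟩
    · simp [h.2] at h7; omega
    · simp [h.2] at h5; omega
    · exact ⟨⟨h6.2.1.trans (h.1.1.trans h8.1.1), by omega⟩, h⟩

end Cfsg.Sym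

set_option linter.all false in
theorem Cfsg.Rz.Sym_Count_0 : True := by
  have := @_root_.Cfsg.Sym.swap2.eq_def.{0}
  have := @_root_.Cfsg.Sym.swap2.fun_cases.{0}
  trivial
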