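import Cfsg.Agent.Sym.Char
import Cfsg.Agent.Sym.Count
import Cfsg.Agent.Blk.Contrib
import Cfsg.Agent.Mod.BrauerA

/-!
# Blocks of symmetric groups lie in one residue class; the weight of the class
-/

set_option autoImplicit false
set_option linter.unusedSectionVars false
set_option linter.style.haveILetI false

namespace Cfsg.Sym

open Equiv Finset

variable {N p w : ℕ} {α : Type*} [Fintype α] [DecidableEq α] {ρ : Fin N → ℕ}
  {χ : IrrCharacter (Perm α)}

theorem count_mul_XF (hN : Fintype.card α ≤ N) {k : ℕ} (hk : 0 < k) (a : Fin N → ℕ) :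
    (fun g => ((k * (pt g).count k : ℕ) : ℂ)) * XF α a =
      ∑ i with k ≤ a i, ∑ j, XF α (a - Pi.single i k + Pi.single j k) := by
  funext g
  have h1 : dn k (up k (X (N := N) (pt g))) a = (k * (pt g).count k : ℕ) * X (pt g) a := by
    rw [up_X hk ((sum_pt g).trans_le hN)]
    by_cases h : k ∈ pt g
    · conv_rhs => rw [← Multiset.cons_erase h, X_cons, Multiset.cons_erase h]
      simp [dn, mul_sum]
    · simp [dn, Multiset.count_eq_zero.2 h]
  simp only [Pi.mul_apply, XF, Finset.sum_apply, sum_filter]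
  rw [← Int.cast_natCast, ← Int.cast_mul, ← h1]
  simp [dn, up]

theorem pRegularPart_XF_mem [hp : Fact p.Prime] (hN : Fintype.card α ≤ N) (a : Fin N → ℕ) :
    pRegularPart p (XF α a) ∈ Submodule.span ℂ (XF α '' {a' | ∀ i, a' i % p = a i % p}) := by
  set W := Submodule.span ℂ (XF α '' {a' | ∀ i, a' i % p = a i % p})
  let t : ℕ × ℕ → Perm α → ℂ := fun x g => 1 - (x.2 : ℂ)⁻¹ * (p * x.1 * (pt g).count (p * x.1) : ℕ)
  have h1 : ∀ x, 0 < x.1 → ∀ θ ∈ W, t x * θ ∈ W := fun x hx θ hθ => by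
    have : t x * θ = θ - (x.2 : ℂ)⁻¹ •
        ((fun g => ((p * x.1 * (pt g).count (p * x.1) : ℕ) : ℂ)) * θ) := by
      funext g; simp [t]; ring
    rw [this]
    refine sub_mem hθ (W.smul_mem _ ?_)
    refine Submodule.span_induction (fun _ ⟨b, hb, e⟩ => ?_) (by simp)
      (fun _ _ _ _ h h' => by rw [mul_add]; exact add_mem h h')
      (fun c _ _ h => by rw [mul_smul_comm]; exact W.smul_mem c h) hθ
    rw [← e, count_mul_XF hN (Nat.mul_pos hp.out.pos hx)]
    refine sum_mem fun i hi => sum_mem fun j _ => Submodule.subset_span ⟨_, fun l => ?_, rfl⟩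
    have h3 : ∀ (c : Fin N → ℕ) i, (c + Pi.single i (p * x.1) : Fin N → ℕ) l % p = c l % p :=
      fun c i => by rw [Pi.add_apply, Pi.single_apply]; split_ifs <;> simp
    rw [← hb l, h3, ← h3 _ i, sub_single_add (mem_filter.1 hi).2]
  have h2 : pRegularPart p (XF α a) = (∏ x ∈ Icc 1 N ×ˢ Icc 1 N, t x) * XF α a := by
    funext g
    rw [pRegularPart_apply, Pi.mul_apply, Finset.prod_apply]
    split_ifs with h <;> rw [dvd_orderOf_iff hp.out] at h
    · obtain ⟨_, hk, k, rfl⟩ := h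
      have h3 : p * k * (pt g).count (p * k) ≤ N := by
        obtain ⟨ν, hν⟩ := Multiset.le_iff_exists_add.1
          (Multiset.le_count_iff_replicate_le.1 (le_refl ((pt g).count (p * k))))
        have := sum_pt g
        rw [hν, Multiset.sum_add, Multiset.sum_replicate, smul_eq_mul, mul_comm] at this
        omega
      have h4 := pt_pos _ hk
      have h5 := Multiset.count_pos.2 hk
      rw [prod_eq_zero (i := (k, p * k * (pt g).count (p * k))), zero_mul]
      · simp only [mem_product, mem_Icc]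
        refine ⟨⟨Nat.pos_of_mul_pos_left h4, ?_⟩, Nat.mul_pos h4 h5, h3⟩
        exact (Nat.le_mul_of_pos_left k hp.out.pos).trans ((Nat.le_mul_of_pos_right _ h5).trans h3)
      · simp only [t]
        rw [inv_mul_cancel₀ (Nat.cast_ne_zero.2 (Nat.mul_pos h4 h5).ne'), sub_self]
    · rw [prod_eq_one, one_mul]
      intro x _
      simp [t, Multiset.count_eq_zero.2 fun e => h ⟨_, e, dvd_mul_right p x.1⟩]
  rw [h2]
  refine prod_induction t (fun f => ∀ θ ∈ W, f * θ ∈ W) (fun f f' h h' θ hθ => ?_) (by simp)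
    (fun x hx => h1 x (mem_Icc.1 (mem_product.1 hx).1).1) _ (Submodule.subset_span ⟨a, by simp, rfl⟩)
  rw [mul_assoc]; exact h _ (h' θ hθ)

variable (p ρ) in
/-- The exponents with residues `ρ` and quotients `b`. -/
def res (b : Fin N → ℕ) : Fin N → ℕ := fun i => ρ i + p * b i

variable (p ρ w χ) in
/-- `χ` has residues `ρ` and weight `w`. -/
def InCls : Prop := ∃ b, mult (res p ρ b) χ ≠ 0 ∧ ∑ i, b i = ∑ i, rk ρ id i + w

theorem cinj_of_injective {b : Fin N → ℕ} (h : Function.Injective (res p ρ b)) : CInj ρ b :=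
  fun i j h1 h2 => h (by simp [res, h1, h2])

theorem injective_of_cinj (hρ : ∀ i, ρ i < p) {b : Fin N → ℕ} (h : CInj ρ b) :
    Function.Injective (res p ρ b) := fun i j e => by
  simp only [res] at e
  have h1 : ρ i = ρ j := by
    simpa [Nat.mod_eq_of_lt (hρ _)] using congrArg (· % p) e
  exact h i j h1 (Nat.eq_of_mul_eq_mul_left (Nat.zero_lt_of_lt (hρ i)) (by omega))

theorem CInj.sum_rk' {b : Fin N → ℕ} (h : CInj ρ b) : ∑ i, Sym.rk ρ b i = ∑ i, Sym.rk ρ id i := by
  simpa using h.sum_rk 1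

theorem sum_res (b : Fin N → ℕ) : ∑ i, res p ρ b i = ∑ i, ρ i + p * ∑ i, b i := by
  simp [res, sum_add_distrib, mul_sum]

theorem exists_inCls (hN : Fintype.card α ≤ N) {M : Ideal AlgInt} (hM : IsPModular p M)
    {B : Set (IrrCharacter (Perm α))} (hB : IsPBlock M B) :
    ∃ (ρ : Fin N → ℕ) (w : ℕ), (∀ i, ρ i < p) ∧ ∀ χ ∈ B, InCls p w ρ χ := by
  haveI := hM.fact
  obtain ⟨χ, hχ, h0⟩ := exists_blockHeight_eq_zero (p := p) (hB.nonempty hM)
  obtain ⟨a, ha⟩ := exists_mult_ne_zero hN χ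
  refine ⟨fun i => a i % p, ∑ i, a i / p - ∑ i, rk (fun i => a i % p) id i,
    fun i => Nat.mod_lt _ hM.prime.pos, fun ψ hψ => ?_⟩
  have h1 := hB.ip_pRegularPart_ne_zero hM hχ hψ h0
  obtain ⟨a', h2, h3⟩ : ∃ a', (∀ i, a' i % p = a i % p) ∧ mult a' ψ ≠ 0 := by
    by_contra hn
    push Not at hn
    rw [eq_smul_XF hN ha, pRegularPart_smul, ip_smul_left] at h1
    refine right_ne_zero_of_mul h1 (Submodule.span_induction (p := fun θ _ => ip θ ψ.1 = 0) ?_
      (by simp) (fun _ _ _ _ h h' => by rw [ip_add_left, h, h', add_zero])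
      (fun c _ _ h => by rw [ip_smul_left, h, mul_zero]) (pRegularPart_XF_mem hN a))
    rintro _ ⟨b, hb, rfl⟩
    rw [ip_XF, hn b hb, Int.cast_zero]
  have h4 : ∀ a', (∀ i, a' i % p = a i % p) → res p (fun i => a i % p) (fun i => a' i / p) = a' :=
    fun a' h => funext fun i => by simp [res, ← h i, Nat.mod_add_div]
  obtain ⟨h5, h6⟩ := inj_of_XF_ne_zero (XF_ne_zero_of_mult h3)
  have h7 := (inj_of_XF_ne_zero (XF_ne_zero_of_mult ha)).2
  rw [← h4 a' h2] at h3 h5 h6
  rw [← h4 a fun _ => rfl, ← h6, sum_res, sum_res, add_right_inj,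
    Nat.mul_right_inj hM.prime.ne_zero] at h7
  have h8 := cinj_of_injective h5
  exact ⟨_, h3, by rw [h7, add_tsub_cancel_of_le (h8.sum_rk' ▸ sum_le_sum fun i _ => h8.rk_le i)]⟩

theorem res_add_single (b : Fin N → ℕ) (i : Fin N) (k : ℕ) :
    res p ρ (b + Pi.single i k) = res p ρ b + Pi.single i (p * k) := by
  funext j; simp only [res, Pi.add_apply, Pi.single_apply]; split_ifs <;> simp [mul_add, add_assoc]

theorem res_comp {σ : Perm (Fin N)} (hσ : ρ ∘ σ = ρ) (b : Fin N → ℕ) :
    res p ρ (b ∘ σ) = res p ρ b ∘ σ := by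
  funext i; simp only [res, Function.comp_apply, ← congrFun hσ i]

theorem exists_span_words [hp : Fact p.Prime] (hN : Fintype.card α ≤ N) (hρ : ∀ i, ρ i < p)
    (w : ℕ) : ∃ g : List (ℕ × ℕ) → Perm α → ℂ, (∀ x y l, g (x :: y :: l) = g (y :: x :: l)) ∧
      ∀ χ, InCls p w ρ χ →
        pRegularPart p χ.1 ∈ Submodule.span ℂ (g '' words ((range p).erase 0) 1 w) := by
  refine ⟨fun l => upW ρ l (fun b => pRegularPart p (XF α (res p ρ b))) (rk ρ id),
    fun x y l => by simp only [upW, List.foldl_cons, upC_comm x.1], fun χ ⟨b, h1, h2⟩ => ?_⟩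
  rw [eq_smul_XF hN h1, pRegularPart_smul]
  refine Submodule.smul_mem _ _ (mem_span_words (m := 1) (fun _ => le_rfl)
    (Q := fun c => ∀ k, 1 ≤ k → ∀ b, up k c b = 0) (fun c r k h k' hk' b => ?_)
    (fun c r k b h hk => ?_) w _ b (fun σ hσ b => ?_) (fun k hk b => ?_) (by simpa using h2))
  · simp only [up, upC] at h ⊢
    rw [sum_comm]
    exact sum_eq_zero fun j _ => by simpa only [add_right_comm] using h k' hk' (b + Pi.single j k)
  · by_cases hr : r ∈ (range p).erase 0
    · exact Submodule.subset_span ⟨r, hr, rfl, rfl⟩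
    by_cases h0 : r = 0
    · have h3 := h k hk b
      rw [up, ← sum_fiberwise_of_maps_to (t := range p) (g := ρ) fun i _ => mem_range.2 (hρ i),
        ← add_sum_erase _ _ (mem_range.2 hp.out.pos), add_eq_zero_iff_eq_neg] at h3
      rw [h0, upC, h3]
      exact neg_mem (sum_mem fun r hr => Submodule.subset_span ⟨r, hr, rfl, rfl⟩)
    · rw [upC, sum_eq_zero fun i hi => absurd (hρ i) (by simp_all)]
      exact zero_mem _
  · rw [res_comp hσ, XF_comp, pRegularPart_smul, Int.cast_smul_eq_zsmul]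
  · funext g
    simp only [up, Finset.sum_apply, pRegularPart_apply, Pi.zero_apply]
    by_cases h : p ∣ orderOf g
    · simp [h]
    simp only [if_neg h]
    rw [dvd_orderOf_iff hp.out] at h
    have := congrFun (up_X (N := N) (Nat.mul_pos hp.out.pos hk) ((sum_pt g).trans_le hN))
      (res p ρ b)
    rw [Multiset.count_eq_zero_of_notMem fun e => h ⟨_, e, dvd_mul_right p k⟩] at this
    simp only [up, mul_zero, Nat.cast_zero, zero_mul] at this
    simp only [XF, res_add_single]
    exact_mod_cast this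

theorem blockRank_lt_of_inCls [hp : Fact p.Prime] (hN : Fintype.card α ≤ N) (hρ : ∀ i, ρ i < p)
    {B : Set (IrrCharacter (Perm α))} (hB : ∀ χ ∈ B, InCls p w ρ χ) :
    (0 < w → blockRank p B ≤ (p - 1) * p ^ (w - 1)) ∧ (3 ≤ w → 2 * blockRank p B < p ^ w) := by
  obtain ⟨g, h1, h2⟩ := exists_span_words (α := α) hN hρ w
  obtain ⟨h3, h4⟩ := words_one_bound ((range p).erase 0) w
  have h5 : blockRank p B ≤ (g '' words ((range p).erase 0) 1 w).ncard := by
    haveI := (h3.image g).fintype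
    haveI := FiniteDimensional.span_of_finite ℂ (h3.image g)
    refine (Submodule.finrank_mono (Submodule.span_le.2 ?_)).trans
      ((finrank_span_le_card _).trans (Set.ncard_eq_toFinset_card' _).ge)
    rintro _ ⟨χ, hχ, rfl⟩
    exact h2 χ (hB χ hχ)
  have h6 := fun h => two_mul_ncard_image_words_lt (R := (range p).erase 0) h1 (w := w) h
  rw [card_erase_of_mem (mem_range.2 hp.out.pos), card_range,
    Nat.sub_add_cancel hp.out.one_le] at h4 h6
  exact ⟨fun h => h5.trans ((Set.ncard_image_le h3).trans (by rwa [if_neg h.ne'] at h4)),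
    fun h => (Nat.mul_le_mul_left _ h5).trans_lt (h6 h)⟩

theorem dn_res {V : Type*} [AddCommGroup V] (hρ : ∀ i, ρ i < p) (c : (Fin N → ℕ) → V) (k : ℕ)
    (b : Fin N → ℕ) : dn (p * k) c (res p ρ b) = dn k (fun b => c (res p ρ b)) b := by
  refine sum_congr rfl fun i _ => ?_
  by_cases h : k ≤ b i
  · rw [if_pos h, if_pos (show _ ≤ res p ρ b i from le_add_left (Nat.mul_le_mul_left p h))]
    conv_lhs => rw [← sub_single_add h, res_add_single, add_tsub_cancel_right]
  · rw [if_neg h, if_neg]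
    have := Nat.mul_le_mul_left p (Nat.succ_le_of_lt (not_le.1 h))
    have := hρ i
    simp only [res, Nat.mul_succ] at *
    omega

theorem sum_le_of_X_ne_zero (hρ : ∀ i, ρ i < p) {μ ν : Multiset ℕ} (hμ : ∀ k ∈ μ, p ∣ k) :
    ∀ b : Fin N → ℕ, X (μ + ν) (res p ρ b) ≠ 0 → p * ∑ i, rk ρ id i + μ.sum ≤ p * ∑ i, b i := by
  induction μ using Multiset.induction with
  | empty =>
    intro b h
    have := cinj_of_injective (injective_of_X_ne_zero h)
    simpa [← this.sum_rk'] using Nat.mul_le_mul_left p (sum_le_sum fun i _ => this.rk_le i)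
  | cons k μ ih =>
    intro b h
    obtain ⟨k, rfl⟩ := hμ k (by simp)
    rw [Multiset.cons_add, X_cons, dn_res hρ] at h
    obtain ⟨i, -, h⟩ := exists_ne_zero_of_sum_ne_zero h
    obtain ⟨h1, h2⟩ := ite_ne_right_iff.1 h
    have := ih (fun k hk => hμ k (by simp [hk])) _ h2
    rw [← sum_sub_single h1, Multiset.sum_cons, mul_add]
    omega

theorem InCls.card_support_le (hN : Fintype.card α ≤ N) (hρ : ∀ i, ρ i < p) (h : InCls p w ρ χ)
    {g : Perm α} (hg : ∀ k ∈ g.cycleType, p ∣ k) (h0 : χ g ≠ 0) : #g.support ≤ p * w := by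
  obtain ⟨b, h1, h2⟩ := h
  have h3 : X (pt g) (res p ρ b) ≠ 0 := fun e => h0 (by
    rw [show χ g = _ from congrFun (eq_smul_XF hN h1) g]; simp [XF, e])
  have := sum_le_of_X_ne_zero hρ hg b (pt_eq g ▸ h3)
  rw [h2, mul_add, Perm.sum_cycleType] at this
  omega

theorem InCls.spec (hρ : ∀ i, ρ i < p) (h : InCls p w ρ χ) (hN : Fintype.card α ≤ N) :
    p * w ≤ Fintype.card α ∧ ∀ u : Perm α, u.cycleType = Multiset.replicate w p → χ u ≠ 0 := by
  obtain ⟨b, h1, h2⟩ := h
  obtain ⟨h3, h4⟩ := inj_of_XF_ne_zero (XF_ne_zero_of_mult h1)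
  have h5 := cinj_of_injective h3
  have h6 := injective_of_cinj hρ h5.rk
  have h7 := tri_le h6
  have h8 := sum_res (ρ := ρ) (p := p) (rk ρ b)
  rw [sum_res, h2, mul_add] at h4
  rw [h5.sum_rk'] at h8
  refine ⟨by omega, fun u hu h0 => ?_⟩
  have h9 : ∀ (c : (Fin N → ℕ) → ℤ) w b,
      (dn p)^[w] c (res p ρ b) = (dn 1)^[w] (fun b => c (res p ρ b)) b := fun c w => by
    induction w with
    | zero => exact fun _ => rfl
    | succ w ih =>
      intro b
      rw [Function.iterate_succ_apply', Function.iterate_succ_apply', ← funext ih, ← dn_res hρ,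
        mul_one]
  obtain ⟨m, hm, h10⟩ := CAlt.exists_iterate_dn (ρ := ρ)
    (c := fun b => X (Multiset.replicate (Fintype.card α - p * w) 1) (res p ρ b))
    (fun σ hσ b => by simp only [res_comp hσ, alt_X _ σ rfl]) w b h5 (by rw [h5.sum_rk', h2])
  have h11 := congrFun (XF_eq_smul hN h1) u
  rw [XF, pt_eq, ← Perm.sum_cycleType, hu, X_replicate_add, h9, Multiset.sum_replicate,
    smul_eq_mul, mul_comm w, h10] at h11
  simp [h0, hm.ne', X_replicate_one_ne_zero h6 (n := Fintype.card α - p * w) (by omega)] at h11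

end Cfsg.Sym

set_option linter.all false in
theorem Cfsg.Rz.Sym_Cls_0 : True := by
  have := @_root_.Cfsg.Sym.res.eq_def
  have := @_root_.Cfsg.Sym.res.fun_cases
  have := @_root_.Cfsg.Sym.InCls.eq_def.{0}
  have := @_root_.Cfsg.Sym.InCls.eq_1.{0}
  have := @_root_.Cfsg.Sym.InCls.fun_cases
  trivial
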