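import Mathlib.GroupTheory.Perm.Sign
import Mathlib.Algebra.Group.Torsion
import Mathlib.Algebra.BigOperators.Intervals
import Mathlib.Algebra.BigOperators.Ring.Finset
import Mathlib.Algebra.Order.BigOperators.Group.Finset
import Mathlib.Data.Set.Card
import Mathlib.Algebra.Module.BigOperators
import Mathlib.Algebra.BigOperators.GroupWithZero.Action
import Mathlib.Data.Complex.Basic
import Mathlib.LinearAlgebra.Span.Basic
import Mathlib.Tactic.Linarith
import Mathlib.Tactic.Ring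
import Mathlib.Tactic.Abel

/-!
# Alternating functions of coloured exponent vectors (beads on an abacus)
-/

set_option autoImplicit false
set_option linter.unusedSectionVars false
set_option linter.unnecessarySeqFocus false

namespace Cfsg.Sym

open Equiv Finset

variable {ι κ V : Type*} [Fintype ι] [DecidableEq ι] [DecidableEq κ] [AddCommGroup V]
  {ρ : ι → κ} {c : (ι → ℕ) → V} {b : ι → ℕ}

/-- Lower one entry by `k`. -/
def dn (k : ℕ) (c : (ι → ℕ) → V) (b : ι → ℕ) : V :=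
  ∑ i, if k ≤ b i then c (b - Pi.single i k) else 0

/-- Raise one entry of colour `r` by `k`. -/
def upC (ρ : ι → κ) (r : κ) (k : ℕ) (c : (ι → ℕ) → V) (b : ι → ℕ) : V :=
  ∑ i with ρ i = r, c (b + Pi.single i k)

/-- Alternating under colour-preserving permutations. -/
def CAlt (ρ : ι → κ) (c : (ι → ℕ) → V) : Prop :=
  ∀ σ : Perm ι, ρ ∘ σ = ρ → ∀ b, c (b ∘ σ) = (Perm.sign σ : ℤ) • c b

/-- Injective on each colour. -/
def CInj {β : Type*} (ρ : ι → κ) (b : ι → β) : Prop := ∀ i j, ρ i = ρ j → b i = b j → i = j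

/-- The number of smaller entries of the same colour. -/
def rk {β : Type*} [LinearOrder β] (ρ : ι → κ) (b : ι → β) (i : ι) : ℕ :=
  #{j | ρ j = ρ i ∧ b j < b i}

theorem comp_swap_eq {α : Type*} {f : ι → α} {i j : ι} (h : f i = f j) : f ∘ swap i j = f := by
  ext x
  simp only [Function.comp_apply, swap_apply_def]
  split_ifs <;> simp_all

theorem CAlt.swap (hc : CAlt ρ c) {i j : ι} (h : ρ i = ρ j) (hij : i ≠ j) (b : ι → ℕ) :
    c (b ∘ swap i j) = -c b := by
  rw [hc _ (comp_swap_eq h), Perm.sign_swap hij]; simp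

theorem CAlt.eq_zero [IsAddTorsionFree V] (hc : CAlt ρ c) (hb : ¬ CInj ρ b) : c b = 0 := by
  simp only [CInj, not_forall] at hb
  obtain ⟨i, j, h1, h2, h3⟩ := hb
  have := hc.swap h1 h3 b
  rwa [comp_swap_eq h2, self_eq_neg] at this

theorem single_comp (σ : Perm ι) (i : ι) (k : ℕ) :
    (Pi.single (σ i) k : ι → ℕ) ∘ σ = Pi.single i k := by
  rw [Pi.single_comp_equiv]; simp

theorem CAlt.dn (hc : CAlt ρ c) (k : ℕ) : CAlt ρ (dn k c) := fun σ hσ b => by
  simp only [Sym.dn, smul_sum]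
  refine Fintype.sum_equiv σ _ _ fun i => ?_
  rw [smul_ite, smul_zero, ← hc σ hσ, ← single_comp σ i k]
  rfl

theorem CAlt.upC (hc : CAlt ρ c) (r : κ) (k : ℕ) : CAlt ρ (upC ρ r k c) := fun σ hσ b => by
  simp only [Sym.upC, smul_sum, sum_filter]
  refine Fintype.sum_equiv σ _ _ fun i => ?_
  rw [smul_ite, smul_zero, ← hc σ hσ, ← single_comp σ i k, ← congrFun hσ i]
  rfl

theorem upC_comm (r r' : κ) (k k' : ℕ) (c : (ι → ℕ) → V) :
    upC ρ r k (upC ρ r' k' c) = upC ρ r' k' (upC ρ r k c) := by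
  funext b
  simp only [upC]
  rw [sum_comm]
  simp only [add_right_comm]

theorem CInj.comp {β : Type*} {b : ι → β} (hb : CInj ρ b) {σ : Perm ι} (hσ : ρ ∘ σ = ρ) :
    CInj ρ (b ∘ σ) := fun i j h1 h2 =>
  σ.injective (hb _ _ ((congrFun hσ i).trans (h1.trans (congrFun hσ j).symm)) h2)

section rk

variable {β : Type*} [LinearOrder β]

theorem rk_lt_rk {b : ι → β} {i j : ι} (h : ρ i = ρ j) (hb : b i < b j) :
    rk ρ b i < rk ρ b j := by
  refine card_lt_card ⟨fun x hx => ?_, fun hs => ?_⟩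
  · simp only [mem_filter, mem_univ, true_and] at hx ⊢
    exact ⟨hx.1.trans h, hx.2.trans hb⟩
  · simpa using hs (show i ∈ _ by simp [h, hb])

theorem CInj.rk {b : ι → β} (hb : CInj ρ b) : CInj ρ (rk ρ b) := fun i j h1 h2 => by
  rcases lt_trichotomy (b i) (b j) with h | h | h
  · exact absurd h2 (rk_lt_rk h1 h).ne
  · exact hb i j h1 h
  · exact absurd h2 (rk_lt_rk h1.symm h).ne'

theorem rk_lt_card (b : ι → β) (i : ι) : rk ρ b i < #{j | ρ j = ρ i} := by
  refine card_lt_card ⟨fun x hx => ?_, fun hs => ?_⟩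
  · simp only [mem_filter, mem_univ, true_and] at hx ⊢
    exact hx.1
  · simpa using hs (show i ∈ _ by simp)

theorem CInj.exists_rk_eq {b : ι → β} (hb : CInj ρ b) (i : ι) {t : ℕ}
    (ht : t < #{j | ρ j = ρ i}) : ∃ j, ρ j = ρ i ∧ Sym.rk ρ b j = t := by
  have := surj_on_of_inj_on_of_card_le (s := ({j | ρ j = ρ i} : Finset ι))
    (t := range #{j | ρ j = ρ i}) (fun j _ => Sym.rk ρ b j)
    (fun j hj => by
      have h := rk_lt_card (ρ := ρ) b j
      rw [(mem_filter.1 hj).2] at h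
      exact mem_range.2 h)
    (fun j j' hj hj' h => hb.rk j j' ((mem_filter.1 hj).2.trans (mem_filter.1 hj').2.symm) h)
    (by simp) t (mem_range.2 ht)
  obtain ⟨j, hj, h⟩ := this
  exact ⟨j, (mem_filter.1 hj).2, h.symm⟩

theorem CInj.exists_perm {γ : Type*} [LinearOrder γ] {b : ι → β} {b' : ι → γ} (hb : CInj ρ b)
    (hb' : CInj ρ b') : ∃ σ : Perm ι, ρ ∘ σ = ρ ∧ Sym.rk ρ b = Sym.rk ρ b' ∘ σ := by
  choose f h1 h2 using fun i => hb'.exists_rk_eq i (rk_lt_card (ρ := ρ) b i)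
  have hf : Function.Injective f := fun i j h =>
    hb.rk i j (by rw [← h1 i, h, h1]) (by rw [← h2 i, h, h2])
  exact ⟨ofBijective f hf.bijective_of_finite, funext h1, funext fun i => (h2 i).symm⟩

end rk

theorem CInj.rk_le (hb : CInj ρ b) (i : ι) : Sym.rk ρ b i ≤ b i := by
  rw [← card_range (b i)]
  refine card_le_card_of_injOn b (fun j hj => ?_) fun j hj j' hj' h => ?_
  · simp only [coe_filter, mem_univ, true_and, Set.mem_ofPred_eq] at hj
    simpa using hj.2
  · simp only [coe_filter, mem_univ, true_and, Set.mem_ofPred_eq] at hj hj'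
    exact hb _ _ (hj.1.trans hj'.1.symm) h

/-- Moving a bead one step down to an empty place keeps the ranks. -/
theorem CInj.rk_sub_single (hb : CInj ρ b) {i : ι} (h1 : 1 ≤ b i)
    (hb' : CInj ρ (b - Pi.single i 1)) : Sym.rk ρ (b - Pi.single i 1) = Sym.rk ρ b := by
  funext j
  refine congrArg card (filter_congr fun l _ => and_congr_right fun h => ?_)
  have h2 := hb l j h
  have h3 := hb' l j h
  simp only [Pi.sub_apply, Pi.single_apply] at h3 ⊢
  split_ifs at h3 ⊢ with h4 h5 h5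
  · rw [h4, h5]; omega
  · have := mt h2 (fun e => h5 (e ▸ h4)); have := mt h3 (fun e => h5 (e ▸ h4)); subst h4; omega
  · have := mt h2 (fun e => h4 (e ▸ h5)); have := mt h3 (fun e => h4 (e ▸ h5)); subst h5; omega
  · omega

theorem CInj.exists_sub_single (hb : CInj ρ b) (h : Sym.rk ρ b ≠ b) :
    ∃ i, 1 ≤ b i ∧ CInj ρ (b - Pi.single i 1) := by
  obtain ⟨i, hi, hmin⟩ := exists_min_image ({i | Sym.rk ρ b i ≠ b i} : Finset ι) b
    (by obtain ⟨i, hi⟩ := Function.ne_iff.1 h; exact ⟨i, by simpa using hi⟩)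
  simp only [mem_filter, mem_univ, true_and] at hi hmin
  have h0 := hb.rk_le i
  have key : ∀ j, ρ j = ρ i → b j ≠ b i - 1 := fun j hj e => by
    have h1 := rk_lt_rk hj (show b j < b i by omega)
    have h2 : Sym.rk ρ b j = b j := by
      by_contra h2
      have := hmin j h2
      omega
    omega
  refine ⟨i, by omega, fun j l h1 h2 => ?_⟩
  simp only [Pi.sub_apply, Pi.single_apply] at h2
  split_ifs at h2 with h4 h5 h5
  · rw [h4, h5]
  · subst h4; exact absurd h2.symm (key l h1.symm)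
  · subst h5; exact absurd h2 (key j h1)
  · exact hb _ _ h1 h2

theorem sub_single_add {i : ι} {k : ℕ} (h : k ≤ b i) : b - Pi.single i k + Pi.single i k = b := by
  ext j; simp only [Pi.add_apply, Pi.sub_apply, Pi.single_apply]; split_ifs with h' <;>
    [subst h'; skip] <;> omega

theorem sum_sub_single {i : ι} {k : ℕ} (h : k ≤ b i) :
    ∑ j, (b - Pi.single i k : ι → ℕ) j + k = ∑ j, b j := by
  conv_rhs => rw [← sub_single_add h]
  simp [sum_add_distrib]

/-- Removing all the weight, one step at a time, gives a positive multiple of the ground state. -/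
theorem CAlt.exists_iterate_dn [IsAddTorsionFree V] (hc : CAlt ρ c) (w : ℕ) :
    ∀ b, CInj ρ b → ∑ i, b i = ∑ i, rk ρ b i + w →
      ∃ m : ℕ, 0 < m ∧ (Sym.dn 1)^[w] c b = m • c (rk ρ b) := by
  have halt : ∀ w, CAlt ρ ((Sym.dn 1)^[w] c) := fun w => by
    induction w with
    | zero => exact hc
    | succ w ih => rw [Function.iterate_succ_apply']; exact ih.dn 1
  induction w with
  | zero =>
    intro b hb h
    have := (sum_eq_sum_iff_of_le fun i _ => hb.rk_le i).1 h.symm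
    exact ⟨1, one_pos, by simp [funext fun i => this i (mem_univ i)]⟩
  | succ w ih =>
    intro b hb h
    have h1 : ∀ i, ∃ m : ℕ, (1 ≤ b i → CInj ρ (b - Pi.single i 1) → 0 < m) ∧
        (if 1 ≤ b i then (Sym.dn 1)^[w] c (b - Pi.single i 1) else 0) = m • c (rk ρ b) := by
      intro i
      by_cases h2 : 1 ≤ b i ∧ CInj ρ (b - Pi.single i 1)
      · have h3 := hb.rk_sub_single h2.1 h2.2
        have h4 := sum_sub_single h2.1
        obtain ⟨m, hm, h5⟩ := ih _ h2.2 (by rw [h3]; omega)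
        exact ⟨m, fun _ _ => hm, by rw [if_pos h2.1, h5, h3]⟩
      · refine ⟨0, fun h3 h4 => absurd ⟨h3, h4⟩ h2, ?_⟩
        split_ifs with h3
        · rw [(halt w).eq_zero fun h4 => h2 ⟨h3, h4⟩, zero_smul]
        · simp
    choose m hm1 hm2 using h1
    obtain ⟨i, hi1, hi2⟩ := hb.exists_sub_single fun e => by rw [e] at h; omega
    refine ⟨∑ i, m i, sum_pos' (fun _ _ => Nat.zero_le _) ⟨i, mem_univ _, hm1 i hi1 hi2⟩, ?_⟩
    rw [Function.iterate_succ_apply', Sym.dn, sum_smul]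
    exact sum_congr rfl fun i _ => hm2 i

theorem CAlt.sum_pair [IsAddTorsionFree V] (hc : CAlt ρ c) {i j : ι} (h : ρ i = ρ j) (hij : i ≠ j)
    (b : ι → ℕ) : ∑ k ∈ Icc 1 (b i), c (b - Pi.single i k + Pi.single j k) +
      ∑ k ∈ Icc 1 (b j), c (b - Pi.single j k + Pi.single i k) = -c b := by
  set v : ℕ → ι → ℕ := fun s l => if l = i then s else if l = j then b i + b j - s else b l
    with hv
  have h1 : ∑ s ∈ range (b i + b j + 1), c (v s) = 0 := by
    rw [← self_eq_neg, ← sum_neg_distrib, ← sum_range_reflect]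
    refine sum_congr rfl fun s hs => ?_
    rw [← hc.swap h hij]
    congr 1
    ext l
    simp only [hv, Function.comp_apply, swap_apply_def, mem_range] at hs ⊢
    split_ifs <;> simp_all <;> omega
  have h2 : ∑ k ∈ Icc 1 (b i), c (b - Pi.single i k + Pi.single j k) =
      ∑ s ∈ range (b i), c (v s) := by
    refine sum_nbij' (fun k => b i - k) (fun s => b i - s) ?_ ?_ ?_ ?_ fun k hk => ?_
    all_goals simp only [mem_Icc, mem_range] at *
    iterate 4 intro k hk; omega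
    congr 1
    ext l
    simp only [hv, Pi.add_apply, Pi.sub_apply, Pi.single_apply]
    split_ifs <;> simp_all
  have h3 : ∑ k ∈ Icc 1 (b j), c (b - Pi.single j k + Pi.single i k) =
      ∑ s ∈ Ico (b i + 1) (b i + b j + 1), c (v s) := by
    refine sum_nbij' (fun k => b i + k) (fun s => s - b i) ?_ ?_ ?_ ?_ fun k hk => ?_
    all_goals simp only [mem_Icc, mem_Ico] at *
    iterate 4 intro k hk; omega
    congr 1
    ext l
    simp only [hv, Pi.add_apply, Pi.sub_apply, Pi.single_apply]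
    split_ifs <;> simp_all <;> omega
  have h4 : v (b i) = b := by
    ext l
    simp only [hv]
    split_ifs <;> simp_all
  rw [← sum_range_add_sum_Ico _ (show b i + 1 ≤ _ by omega), sum_range_succ, h4] at h1
  rw [h2, h3, eq_neg_iff_add_eq_zero, ← h1]
  abel

variable [LinearOrder ι]

theorem cinj_id : CInj ρ (id : ι → ι) := fun _ _ _ h => h

theorem CInj.sum_rk (hb : CInj ρ b) (m : κ → ℕ) :
    ∑ i, m (ρ i) * Sym.rk ρ b i = ∑ i, m (ρ i) * Sym.rk ρ id i := by
  obtain ⟨σ, h1, h2⟩ := hb.exists_perm (cinj_id (ρ := ρ))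
  rw [h2]
  exact Fintype.sum_equiv σ _ _ fun i => by rw [← congrFun h1 i]; rfl

/-- The degree operator is `∑ up ∘ down`. -/
theorem CAlt.sugawara [IsAddTorsionFree V] (hc : CAlt ρ c) (m : κ → ℕ) (b : ι → ℕ) :
    ∑ i, m (ρ i) • ∑ k ∈ Icc 1 (b i), Sym.upC ρ (ρ i) k c (b - Pi.single i k) +
      (∑ i, m (ρ i) * rk ρ id i) • c b = (∑ i, m (ρ i) * b i) • c b := by
  set F : ι → ι → V := fun i j => ∑ k ∈ Icc 1 (b i), c (b - Pi.single i k + Pi.single j k)
  have h1 : ∀ i, ∑ k ∈ Icc 1 (b i), Sym.upC ρ (ρ i) k c (b - Pi.single i k) =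
      b i • c b + (∑ j with ρ j = ρ i ∧ j < i, F i j + ∑ j with ρ j = ρ i ∧ i < j, F i j) := by
    intro i
    have h2 : F i i = b i • c b := by
      simp only [F]
      rw [sum_congr rfl (g := fun _ => c b)]
      · simp
      · exact fun k hk => by rw [sub_single_add (mem_Icc.1 hk).2]
    simp only [Sym.upC]
    rw [sum_comm, ← h2, ← sum_filter_add_sum_filter_not _ (· = i)]
    congr 1
    · rw [sum_eq_single i] <;> simp +contextual
    · rw [← sum_filter_add_sum_filter_not _ (· < i)]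
      simp only [filter_filter]
      congr 1 <;> refine sum_congr (filter_congr fun j _ => ?_) fun _ _ => rfl
      · exact ⟨fun h => ⟨h.1.1, h.2⟩, fun h => ⟨⟨h.1, h.2.ne⟩, h.2⟩⟩
      · exact ⟨fun h => ⟨h.1.1, (not_lt.1 h.2).lt_of_ne' h.1.2⟩,
          fun h => ⟨⟨h.1, h.2.ne'⟩, h.2.le.not_gt⟩⟩
  have h3 : ∑ i, m (ρ i) • ∑ j with ρ j = ρ i ∧ i < j, F i j =
      ∑ i, m (ρ i) • ∑ j with ρ j = ρ i ∧ j < i, F j i := by
    simp only [sum_filter, smul_sum]
    rw [sum_comm]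
    refine sum_congr rfl fun i _ => sum_congr rfl fun j _ => ?_
    by_cases h : ρ i = ρ j
    · simp [h]
    · simp [h, Ne.symm h]
  simp only [h1, smul_add, sum_add_distrib, h3, sum_smul, mul_smul]
  rw [add_assoc, add_eq_left, ← sum_add_distrib, ← sum_add_distrib]
  refine sum_eq_zero fun i _ => ?_
  rw [← smul_add, ← smul_add, ← sum_add_distrib, sum_congr rfl (g := fun _ => -c b)]
  · simp [rk]
  · intro j hj
    simp only [mem_filter, mem_univ, true_and] at hj
    exact hc.sum_pair hj.1.symm hj.2.ne' b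

/-- Words in letters `(r, k)`, `r ∈ R`, `k ≥ 1`, of total weight `w`. -/
def words (R : Finset κ) (m : κ → ℕ) (w : ℕ) : Set (List (κ × ℕ)) :=
  {l | (∀ x ∈ l, x.1 ∈ R ∧ 1 ≤ x.2) ∧ (l.map fun x => m x.1 * x.2).sum = w}

theorem words_finite_ncard_le {R : Finset κ} {m : κ → ℕ} (hm : ∀ r, 1 ≤ m r) {f : ℕ → ℕ}
    (h0 : 1 ≤ f 0)
    (hf : ∀ w, 0 < w → ∑ r ∈ R, ∑ k ∈ Icc 1 w with m r * k ≤ w, f (w - m r * k) ≤ f w) (w : ℕ) :
    (words R m w).Finite ∧ (words R m w).ncard ≤ f w := by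
  classical
  induction w using Nat.strong_induction_on with
  | _ w ih =>
  have hpos : ∀ r k, 1 ≤ k → 1 ≤ m r * k := fun r k hk => Nat.mul_pos (hm r) hk
  rcases w.eq_zero_or_pos with rfl | hw
  · have : words R m 0 ⊆ {[]} := by
      rintro (_ | ⟨x, l⟩) ⟨h1, h2⟩
      · rfl
      · have := hpos x.1 _ (h1 x (by simp)).2
        simp only [List.map_cons, List.sum_cons] at h2
        omega
    exact ⟨(Set.finite_singleton _).subset this,
      (Set.ncard_le_ncard this).trans (by simpa using h0)⟩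
  have h1 : ∀ r k, ∃ S : Finset (List (κ × ℕ)), 1 ≤ k → m r * k ≤ w →
      words R m (w - m r * k) ⊆ S ∧ #S ≤ f (w - m r * k) := fun r k => by
    by_cases h : 1 ≤ k ∧ m r * k ≤ w
    · have := hpos r k h.1
      obtain ⟨h2, h3⟩ := ih (w - m r * k) (by omega)
      exact ⟨h2.toFinset, fun _ _ => ⟨by simp, by rwa [← Set.ncard_eq_toFinset_card _ h2]⟩⟩
    · exact ⟨∅, fun h1 h2 => absurd ⟨h1, h2⟩ h⟩
  choose S hS using h1
  have h2 : words R m w ⊆ (R.biUnion fun r => ({k ∈ Icc 1 w | m r * k ≤ w} : Finset ℕ).biUnion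
      fun k => (S r k).image (List.cons (r, k)) : Finset _) := by
    rintro (_ | ⟨x, l⟩) ⟨h1, h2⟩
    · simp at h2; omega
    · simp only [List.map_cons, List.sum_cons] at h2
      have h3 := h1 x (by simp)
      have h4 : x.2 ≤ m x.1 * x.2 := Nat.le_mul_of_pos_left _ (hm _)
      simp only [coe_biUnion, mem_coe, Set.mem_iUnion, mem_filter, mem_Icc, mem_image]
      exact ⟨x.1, h3.1, x.2, ⟨⟨h3.2, by omega⟩, by omega⟩, l, (hS _ _ h3.2 (by omega)).1
        ⟨fun y hy => h1 y (by simp [hy]), by omega⟩, rfl⟩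
  refine ⟨(finite_toSet _).subset h2, (Set.ncard_le_ncard h2).trans ?_⟩
  rw [Set.ncard_coe_finset]
  refine card_biUnion_le.trans ((sum_le_sum fun r _ => card_biUnion_le.trans
    (sum_le_sum fun k hk => card_image_le.trans ?_)).trans (hf w hw))
  simp only [mem_filter, mem_Icc] at hk
  exact (hS r k hk.1.1 hk.2).2

/-- The operator of a word. -/
def upW (ρ : ι → κ) (l : List (κ × ℕ)) (c : (ι → ℕ) → V) : (ι → ℕ) → V :=
  l.foldl (fun c x => upC ρ x.1 x.2 c) c

theorem mem_span_words [Module ℂ V] [IsAddTorsionFree V] {R : Finset κ} {m : κ → ℕ}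
    (hm : ∀ r, 1 ≤ m r) {Q : ((ι → ℕ) → V) → Prop} (hQ : ∀ c r k, Q c → Q (upC ρ r k c))
    (hR : ∀ c r k b, Q c → 1 ≤ k → upC ρ r k c b ∈
      Submodule.span ℂ {v | ∃ r' ∈ R, m r' = m r ∧ upC ρ r' k c b = v}) (w : ℕ) :
    ∀ c b, CAlt ρ c → Q c → ∑ i, m (ρ i) * b i = ∑ i, m (ρ i) * rk ρ id i + w →
      c b ∈ Submodule.span ℂ ((fun l => upW ρ l c (rk ρ id)) '' words R m w) := by
  induction w using Nat.strong_induction_on with
  | _ w ih =>
  intro c b hc hq hb
  by_cases hi : CInj ρ b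
  swap
  · rw [hc.eq_zero hi]; exact zero_mem _
  rcases w.eq_zero_or_pos with rfl | hw
  · rw [← hi.sum_rk m] at hb
    have h1 := (sum_eq_sum_iff_of_le fun i _ => Nat.mul_le_mul_left _ (hi.rk_le i)).1 hb.symm
    obtain ⟨σ, h2, h3⟩ := hi.exists_perm (cinj_id (ρ := ρ))
    have h4 : b = rk ρ id ∘ σ := by
      rw [← h3]
      exact funext fun i => (Nat.eq_of_mul_eq_mul_left (hm _) (h1 i (mem_univ i))).symm
    rw [h4, hc σ h2]
    refine zsmul_mem (Submodule.subset_span ?_) _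
    exact ⟨[], ⟨by simp, rfl⟩, rfl⟩
  have h1 := hc.sugawara m b
  rw [hb, add_smul, add_comm, add_right_inj] at h1
  rw [← Submodule.smul_mem_iff _ (Nat.cast_ne_zero.2 hw.ne' : (w : ℂ) ≠ 0), Nat.cast_smul_eq_nsmul,
    ← h1]
  refine sum_mem fun i _ => nsmul_mem (sum_mem fun k hk => ?_) _
  rw [mem_Icc] at hk
  refine Submodule.span_le.2 ?_ (hR c (ρ i) k _ hq hk.1)
  rintro _ ⟨r, hr, hmr, rfl⟩
  by_cases hi' : CInj ρ (b - Pi.single i k)
  swap
  · rw [(hc.upC r k).eq_zero hi']; exact zero_mem _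
  have h2 : ∑ j, m (ρ j) * (b - Pi.single i k : ι → ℕ) j + m r * k = ∑ j, m (ρ j) * b j := by
    rw [hmr, ← sum_sub_single (b := fun j => m (ρ j) * b j) (i := i) (k := m (ρ i) * k)
      (Nat.mul_le_mul_left _ hk.2)]
    congr 1
    refine sum_congr rfl fun j _ => ?_
    simp only [Pi.sub_apply, Pi.single_apply]
    split_ifs with h
    · rw [h, Nat.mul_sub]
    · simp
  have h3 := sum_le_sum fun j (_ : j ∈ univ) => Nat.mul_le_mul_left (m (ρ j)) (hi'.rk_le j)
  rw [hi'.sum_rk] at h3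
  have h4 : 1 ≤ m r * k := Nat.mul_pos (hm r) hk.1
  refine Submodule.span_mono ?_ (ih (w - m r * k) (by omega) _ _ (hc.upC r k) (hQ _ _ _ hq)
    (by omega))
  rintro _ ⟨l, ⟨h5, h6⟩, rfl⟩
  refine ⟨(r, k) :: l, ⟨fun x hx => ?_, ?_⟩, rfl⟩
  · rcases List.mem_cons.1 hx with rfl | hx
    · exact ⟨hr, hk.1⟩
    · exact h5 x hx
  · simp only [List.map_cons, List.sum_cons, h6]; omega

end Cfsg.Sym

set_option linter.all false in
theorem Cfsg.Rz.Sym_Comb_0 : True := by
  have := @_root_.Cfsg.Sym.dn.eq_def.{0, 0}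
  have := @_root_.Cfsg.Sym.dn.fun_cases
  have := @_root_.Cfsg.Sym.upC.eq_def.{0, 0, 0}
  have := @_root_.Cfsg.Sym.upC.fun_cases
  have := @_root_.Cfsg.Sym.rk.eq_def.{0, 0, 0}
  have := @_root_.Cfsg.Sym.rk.fun_cases
  have := @_root_.Cfsg.Sym.CAlt.eq_def.{0, 0, 0}
  have := @_root_.Cfsg.Sym.CAlt.eq_1.{0, 0, 0}
  have := @_root_.Cfsg.Sym.CAlt.fun_cases
  have := @_root_.Cfsg.Sym.CInj.eq_def.{0, 0, 0}
  have := @_root_.Cfsg.Sym.CInj.fun_cases
  have := @_root_.Cfsg.Sym.words.eq_def.{0}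
  have := @_root_.Cfsg.Sym.words.eq_1.{0}
  have := @_root_.Cfsg.Sym.words.fun_cases
  have := @_root_.Cfsg.Sym.upW.congr_simp.{0, 0, 0}
  have := @_root_.Cfsg.Sym.upW.eq_def.{0, 0, 0}
  have := @_root_.Cfsg.Sym.upW.eq_1.{0, 0, 0}
  have := @_root_.Cfsg.Sym.upW.fun_cases
  trivial
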