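import Cfsg.Agent.Sym.Comb
import Mathlib.RingTheory.MvPolynomial.Symmetric.Defs
import Mathlib.Algebra.Order.Antidiag.Pi

/-!
# The Frobenius coefficients `X μ a = [x ^ a] (p_μ a_δ)`
-/

set_option autoImplicit false
set_option linter.unusedSectionVars false
set_option linter.unnecessarySeqFocus false

namespace Cfsg.Sym

open Equiv Finset MvPolynomial

variable {N : ℕ} {V : Type*} [AddCommGroup V] {c : (Fin N → ℕ) → V} {a : Fin N → ℕ}

/-- Raise one entry by `k`. -/
def up (k : ℕ) (c : (Fin N → ℕ) → V) (a : Fin N → ℕ) : V := ∑ i, c (a + Pi.single i k)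

/-- Alternating functions. -/
abbrev Alt (c : (Fin N → ℕ) → V) : Prop := CAlt (fun _ => ()) c

/-- `0 + 1 + ⋯ + (N - 1)`. -/
def tri (N : ℕ) : ℕ := ∑ i : Fin N, i.val

theorem cinj_unit : CInj (fun _ => ()) a ↔ Function.Injective a :=
  ⟨fun h i j => h i j rfl, fun h _ _ _ e => h e⟩

theorem Alt.up (hc : Alt c) (k : ℕ) : Alt (up k c) := by
  have : Sym.up k c = upC (fun _ => ()) () k c := by funext a; simp [Sym.up, upC]
  rw [this]; exact hc.upC () k

theorem Alt.eq_zero [IsAddTorsionFree V] (hc : Alt c) (ha : ¬ Function.Injective a) : c a = 0 :=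
  CAlt.eq_zero hc (mt cinj_unit.1 ha)

theorem rk_unit_id : rk (fun _ : Fin N => ()) id = Fin.val := by
  funext i
  simp only [rk, id, true_and]
  rw [← Fin.card_Iio]; congr 1; ext; simp

theorem sum_rk_unit (ha : Function.Injective a) : ∑ i, rk (fun _ => ()) a i = tri N := by
  simpa [rk_unit_id, tri] using (cinj_unit.2 ha).sum_rk fun _ => 1

theorem tri_le (ha : Function.Injective a) : tri N ≤ ∑ i, a i :=
  sum_rk_unit ha ▸ sum_le_sum fun i _ => (cinj_unit.2 ha).rk_le i

theorem exists_apply_eq (ha : Function.Injective a) {m v : ℕ} (h : ∑ i, a i ≤ tri N + m)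
    (hv : v + m < N) : ∃ i, a i = v := by
  by_contra hn
  push Not at hn
  have h1 := tri_le (a := fun i => if v < a i then a i - 1 else a i) fun i j h => ha (by
    have := hn i; have := hn j
    simp only at h
    split_ifs at h <;> omega)
  have h2 : ∑ i, a i = ∑ i, (if v < a i then a i - 1 else a i) + #{i | v < a i} := by
    rw [card_filter, ← sum_add_distrib]
    exact sum_congr rfl fun i _ => by split_ifs <;> omega
  have h3 : #{i | ¬ v < a i} ≤ #(range v) := card_le_card_of_injOn a
    (fun i hi => by have := hn i; simp at hi ⊢; omega) ha.injOn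
  have h4 := card_filter_add_card_filter_not (s := univ) fun i => v < a i
  simp only [card_range, card_univ, Fintype.card_fin] at h3 h4
  omega

theorem card_filter_lt (ha : Function.Injective a) {m k : ℕ} (h : ∑ i, a i ≤ tri N + m)
    (hk : k + m ≤ N) : #{i | a i < k} = k := by
  conv_rhs => rw [← card_range k]
  refine card_nbij a (fun i hi => by simpa using hi) ha.injOn fun v hv => ?_
  obtain ⟨i, hi⟩ := exists_apply_eq ha h (v := v) (by simp at hv; omega)
  exact ⟨i, by simpa [hi] using hv, hi⟩

/-- The Vandermonde determinant. -/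
noncomputable def aδ (N : ℕ) : MvPolynomial (Fin N) ℤ :=
  ∑ σ : Perm (Fin N), monomial (Finsupp.equivFunOnFinite.symm (Fin.val ∘ σ)) (Perm.sign σ : ℤ)

/-- The Frobenius coefficients. -/
noncomputable def X (μ : Multiset ℕ) (a : Fin N → ℕ) : ℤ :=
  coeff (Finsupp.equivFunOnFinite.symm a) ((μ.map (psum (Fin N) ℤ)).prod * aδ N)

theorem X_zero (a : Fin N → ℕ) :
    X 0 a = ∑ σ : Perm (Fin N), if Fin.val ∘ σ = a then (Perm.sign σ : ℤ) else 0 := by
  simp [X, aδ, coeff_sum, coeff_monomial]

theorem X_cons (k : ℕ) (μ : Multiset ℕ) : X (N := N) (k ::ₘ μ) = dn k (X μ) := by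
  funext a
  simp only [X, dn, Multiset.map_cons, Multiset.prod_cons, mul_assoc, psum, sum_mul, coeff_sum,
    X_pow_eq_monomial, coeff_monomial_mul', one_mul, Finsupp.single_le_iff]
  refine sum_congr rfl fun i _ => if_congr Iff.rfl ?_ rfl
  congr 1
  ext j
  simp [Finsupp.single_apply, Pi.single_apply, eq_comm]

theorem alt_X (μ : Multiset ℕ) : Alt (X (N := N) μ) := by
  induction μ using Multiset.induction with
  | empty =>
    intro τ _ a
    simp only [X_zero, smul_sum]
    refine (Fintype.sum_equiv (Equiv.mulRight τ) _ _ fun σ => ?_).symm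
    simp only [coe_mulRight, Perm.coe_mul, ← Function.comp_assoc, τ.surjective.right_cancellable,
      Perm.sign_mul, Units.val_mul, smul_eq_mul, mul_ite, zero_mul, mul_comm]
  | cons k μ ih => rw [X_cons]; exact ih.dn k

theorem X_zero_val_comp (σ : Perm (Fin N)) : X 0 (Fin.val ∘ σ) = Perm.sign σ := by
  rw [X_zero, sum_eq_single σ, if_pos rfl]
  · exact fun τ _ h => if_neg fun e => h (Equiv.ext fun i => Fin.ext (congrFun e i))
  · simp

theorem sum_eq_of_X_ne_zero {μ : Multiset ℕ} : ∀ {a : Fin N → ℕ}, X μ a ≠ 0 →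
    ∑ i, a i = tri N + μ.sum := by
  induction μ using Multiset.induction with
  | empty =>
    intro a h
    rw [X_zero] at h
    obtain ⟨σ, -, h⟩ := exists_ne_zero_of_sum_ne_zero h
    rw [← (ite_ne_right_iff.1 h).1]
    simpa [tri] using Equiv.sum_comp σ Fin.val
  | cons k μ ih =>
    intro a h
    rw [X_cons] at h
    obtain ⟨i, -, h⟩ := exists_ne_zero_of_sum_ne_zero h
    obtain ⟨h1, h2⟩ := ite_ne_right_iff.1 h
    rw [← sum_sub_single h1, ih h2, Multiset.sum_cons]
    ring

theorem injective_of_X_ne_zero {μ : Multiset ℕ} (h : X μ a ≠ 0) : Function.Injective a := by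
  by_contra h'; exact h ((alt_X μ).eq_zero h')

theorem up_dn (k l : ℕ) (c : (Fin N → ℕ) → V) (a : Fin N → ℕ) :
    up k (dn l c) a = dn l (up k c) a +
      ∑ j with a j < l ∧ l ≤ a j + k, c (Function.update a j (a j + k - l)) := by
  simp only [up, dn, sum_filter]
  rw [sum_comm, ← sum_add_distrib]
  refine sum_congr rfl fun j _ => ?_
  have h1 : a + Pi.single j k - Pi.single j l = Function.update a j (a j + k - l) := by
    ext i; by_cases h : i = j <;> simp [h]
  have h2 : ∀ i, l ≤ a j → a + Pi.single i k - Pi.single j l = a - Pi.single j l + Pi.single i k :=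
    fun i hl => by
      ext x
      simp only [Pi.add_apply, Pi.sub_apply, Pi.single_apply]
      split_ifs with h3 h4 h4 <;> (try subst h4) <;> omega
  by_cases h : l ≤ a j
  · rw [if_pos h, if_neg (by omega), add_zero]
    exact sum_congr rfl fun i _ => by rw [if_pos (h.trans (by simp)), h2 i h]
  · rw [if_neg h, zero_add, sum_eq_single j, h1]
    · simp [not_le.1 h]
    · exact fun i _ hi => if_neg (by simpa [Pi.single_eq_of_ne hi.symm] using h)
    · simp

/-- The Heisenberg relation. -/
theorem up_X {k : ℕ} (hk : 0 < k) {μ : Multiset ℕ} (hN : μ.sum ≤ N) :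
    up k (X (N := N) μ) = fun a => (k * μ.count k : ℕ) * X (μ.erase k) a := by
  induction μ using Multiset.induction with
  | empty =>
    funext a
    by_cases ha : Function.Injective a
    · simp only [up, Multiset.count_zero, mul_zero, Nat.cast_zero, zero_mul]
      refine sum_eq_zero fun i _ => ?_
      by_contra h
      have h1 := sum_eq_of_X_ne_zero h
      have h2 := tri_le ha
      simp [sum_add_distrib] at h1
      omega
    · simp [((alt_X 0).up k).eq_zero ha]
  | cons l μ ih =>
    rw [Multiset.sum_cons] at hN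
    funext a
    by_cases ha : Function.Injective a
    swap
    · rw [((alt_X _).up k).eq_zero ha, (alt_X _).eq_zero ha, mul_zero]
    have h1 : ∀ (t : ℤ) (c : (Fin N → ℕ) → ℤ), dn l (fun a => t * c a) a = t * dn l c a := by
      intro t c; simp [dn, mul_sum]
    rw [X_cons, up_dn, ih (by omega), h1, ← X_cons]
    by_cases hkl : l = k
    · subst hkl
      simp only [Nat.add_sub_cancel, Function.update_eq_self, le_add_iff_nonneg_left, zero_le,
        and_true, sum_const, Multiset.count_cons_self, Multiset.erase_cons_head, nsmul_eq_mul]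
      by_cases h0 : X μ a = 0
      · by_cases hl : l ∈ μ
        · simp [Multiset.cons_erase hl, h0]
        · simp [Multiset.count_eq_zero.2 hl, h0]
      rw [card_filter_lt ha (sum_eq_of_X_ne_zero h0).le hN]
      by_cases hl : l ∈ μ
      · rw [Multiset.cons_erase hl]; push_cast; ring
      · simp [Multiset.count_eq_zero.2 hl]
    · rw [Multiset.count_cons_of_ne (Ne.symm hkl), Multiset.erase_cons_tail _ hkl, add_eq_left]
      refine sum_eq_zero fun j hj => ?_
      by_contra h
      simp only [mem_filter, mem_univ, true_and] at hj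
      obtain ⟨i, hi⟩ := exists_apply_eq (injective_of_X_ne_zero h) (sum_eq_of_X_ne_zero h).le
        (v := a j) (by omega)
      by_cases hij : i = j
      · subst hij; simp at hi; omega
      · rw [Function.update_of_ne hij] at hi; exact hij (ha hi)

theorem sum_dn_mul (k d : ℕ) (c c' : (Fin N → ℕ) → ℤ) :
    ∑ a ∈ piAntidiag univ (d + k), dn k c a * c' a = ∑ a ∈ piAntidiag univ d, c a * up k c' a := by
  simp only [dn, up, sum_mul, mul_sum, ite_mul, zero_mul]
  rw [sum_comm, sum_comm (s := piAntidiag univ d)]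
  refine sum_congr rfl fun i _ => ?_
  rw [← sum_filter]
  refine sum_nbij' (fun a => a - Pi.single i k) (fun a => a + Pi.single i k) ?_ ?_ ?_ ?_ ?_
  · intro a ha
    simp only [mem_filter, mem_piAntidiag, mem_univ, implies_true, and_true] at ha ⊢
    have := sum_sub_single ha.2
    change ∑ j, a j = _ ∧ _ at ha
    change ∑ j, (a - Pi.single i k : Fin N → ℕ) j = _
    omega
  · intro a ha
    simp only [mem_filter, mem_piAntidiag, mem_univ, implies_true, and_true] at ha ⊢
    exact ⟨by simp [← ha, sum_add_distrib], by simp⟩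
  · exact fun a ha => sub_single_add (mem_filter.1 ha).2
  · exact fun a _ => funext fun j => Nat.add_sub_cancel ..
  · exact fun a ha => by rw [sub_single_add (mem_filter.1 ha).2]

/-- The centralizer order of a cycle type. -/
def zc (μ : Multiset ℕ) : ℕ := μ.prod * ∏ k ∈ μ.toFinset, (μ.count k).factorial

theorem zc_cons (k : ℕ) (μ : Multiset ℕ) : zc (k ::ₘ μ) = k * (μ.count k + 1) * zc μ := by
  have h1 : ∏ j ∈ μ.toFinset, (μ.count j).factorial =
      ∏ j ∈ insert k μ.toFinset, (μ.count j).factorial := by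
    refine prod_subset (subset_insert _ _) fun j _ hj => ?_
    rw [Multiset.count_eq_zero.2 (by simpa using hj)]; rfl
  rw [zc, zc, h1, Multiset.toFinset_cons, ← mul_prod_erase _ _ (mem_insert_self k _),
    ← mul_prod_erase _ _ (mem_insert_self k _), prod_congr rfl
      (g := fun j => (μ.count j).factorial) fun j hj => by
        rw [Multiset.count_cons_of_ne (ne_of_mem_erase hj)]]
  simp only [Multiset.prod_cons, Multiset.count_cons_self, Nat.factorial_succ]
  ring

/-- Column orthogonality. -/
theorem sum_X_mul_X {μ : Multiset ℕ} : ∀ {ν : Multiset ℕ}, (∀ k ∈ μ, 0 < k) → (∀ k ∈ ν, 0 < k) →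
    ν.sum ≤ N → ∑ a ∈ piAntidiag univ (tri N + μ.sum), X μ a * X (N := N) ν a =
      if μ = ν then (N.factorial * zc μ : ℕ) else 0 := by
  induction μ using Multiset.induction with
  | empty =>
    intro ν _ hν _
    split_ifs with h
    · subst h
      simp only [X_zero (N := N), sum_mul]
      rw [sum_comm, sum_congr rfl (g := fun _ => 1)]
      · simp [zc, Fintype.card_perm]
      · intro σ _
        simp only [ite_mul, zero_mul, sum_ite_eq, ← X_zero, X_zero_val_comp]
        rw [if_pos, ← Units.val_mul, Int.units_mul_self, Units.val_one]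
        simpa [tri] using Equiv.sum_comp σ Fin.val
    · refine sum_eq_zero fun a ha => mul_eq_zero_of_right _ ?_
      by_contra h0
      have h1 := sum_eq_of_X_ne_zero h0
      have h2 : ∑ i, a i = _ := (mem_piAntidiag.1 ha).1
      obtain ⟨k, hk⟩ := Multiset.exists_mem_of_ne_zero (Ne.symm h)
      have := Multiset.le_sum_of_mem hk
      have := hν k hk
      simp at h2
      omega
  | cons k μ ih =>
    intro ν hμ hν hN
    rw [Multiset.sum_cons, add_comm k, ← add_assoc, X_cons, sum_dn_mul,
      up_X (hμ k (by simp)) hN]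
    simp only [mul_left_comm (X μ _), ← mul_sum]
    by_cases hk : k ∈ ν
    · obtain ⟨ν, rfl⟩ := Multiset.exists_cons_of_mem hk
      rw [Multiset.erase_cons_head, ih (fun j hj => hμ j (by simp [hj]))
        (fun j hj => hν j (by simp [hj])) (by simp at hN; omega)]
      simp only [Multiset.cons_inj_right]
      split_ifs with h
      · subst h; rw [zc_cons]; simp; ring
      · simp
    · rw [Multiset.count_eq_zero.2 hk, if_neg fun h => hk (by simp [← h])]; simp

theorem X_replicate_add (k w : ℕ) (μ : Multiset ℕ) :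
    X (N := N) (Multiset.replicate w k + μ) = (dn k)^[w] (X μ) := by
  induction w with
  | zero => simp
  | succ w ih => rw [Multiset.replicate_succ, Multiset.cons_add, X_cons, ih,
      Function.iterate_succ_apply']

theorem X_replicate_one_ne_zero (ha : Function.Injective a) {n : ℕ} (h : ∑ i, a i = tri N + n) :
    X (Multiset.replicate n 1) a ≠ 0 := by
  obtain ⟨m, hm, h1⟩ := (alt_X (N := N) 0).exists_iterate_dn n a (cinj_unit.2 ha)
    (by rw [sum_rk_unit ha, h])
  obtain ⟨σ, -, h2⟩ := (cinj_unit.2 ha).exists_perm (cinj_id (ρ := fun _ => ()))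
  rw [← add_zero (Multiset.replicate n 1), X_replicate_add, h1, h2, rk_unit_id, X_zero_val_comp]
  simp [hm.ne']

end Cfsg.Sym

set_option linter.all false in
theorem Cfsg.Rz.Sym_Frob_0 : True := by
  have := @_root_.Cfsg.Sym.Alt.eq_def.{0}
  have := @_root_.Cfsg.Sym.Alt.eq_1.{0}
  have := @_root_.Cfsg.Sym.Alt.fun_cases
  have := @_root_.Cfsg.Sym.aδ.eq_def
  have := @_root_.Cfsg.Sym.aδ.fun_cases
  have := @_root_.Cfsg.Sym.X.eq_def
  have := @_root_.Cfsg.Sym.X.fun_cases
  have := @_root_.Cfsg.Sym.up.eq_def.{0}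
  have := @_root_.Cfsg.Sym.up.fun_cases
  have := @_root_.Cfsg.Sym.zc.eq_def
  have := @_root_.Cfsg.Sym.zc.fun_cases
  have := @_root_.Cfsg.Sym.tri.eq_def
  have := @_root_.Cfsg.Sym.tri.fun_cases
  trivial
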