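import Cfsg.Agent.Sym.Cls
import Mathlib.LinearAlgebra.Vandermonde
import Mathlib.Data.Nat.Dist

/-!
# Degrees of the characters of symmetric groups and their `p`-parts
-/

set_option autoImplicit false
set_option linter.unusedSectionVars false

namespace Cfsg.Sym

open Equiv Finset Polynomial

variable {N p w : ℕ} {α : Type*} [Fintype α] [DecidableEq α] {ρ : Fin N → ℕ}

theorem exists_pow_mul_prod_dvd {κ : Type*} (p x : ℕ) {s : Finset κ} {c : κ → ℕ}
    (hc : Set.InjOn c s) (h : ∀ i ∈ s, c i < x) : ∃ k, k + #{i ∈ s | p ∣ x - c i} = x / p ∧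
      p ^ k * ∏ i ∈ s, (x - c i) ∣ x.factorial := by
  classical
  have h1 : Set.InjOn (fun i => x - c i) s := fun i hi j hj e => hc hi hj (by
    have := h i hi; have := h j hj; simp only at e; omega)
  have h2 : s.image (fun i => x - c i) ⊆ Ioc 0 x := fun d hd => by
    obtain ⟨i, hi, rfl⟩ := mem_image.1 hd
    have := h i hi
    rw [mem_Ioc]; omega
  refine ⟨#{d ∈ Ioc 0 x \ s.image fun i => x - c i | p ∣ d}, ?_, ?_⟩
  · rw [← Nat.Ioc_filter_dvd_card_eq_div, ← card_image_of_injOn (h1.mono (filter_subset _ s)),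
      ← filter_image, ← card_union_of_disjoint (disjoint_filter_filter sdiff_disjoint),
      ← filter_union, sdiff_union_of_subset h2]
  · rw [← prod_Ico_id_eq_factorial, show Ico 1 (x + 1) = Ioc 0 x from rfl, ← prod_sdiff h2,
      prod_image (f := fun d => d) h1, ← prod_const]
    exact mul_dvd_mul_right ((prod_dvd_prod_of_dvd _ _ fun d hd => (mem_filter.1 hd).2).trans
      (prod_dvd_prod_of_subset _ _ _ (filter_subset _ _))) _

theorem prod_pairs_sq {ι M : Type*} [Fintype ι] [DecidableEq ι] [CommMonoid M] {r : ι → ι → Prop}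
    [DecidableRel r] (h : ∀ i j, r i j ↔ i ≠ j ∧ ¬ r j i) {d : ι → ι → M}
    (hd : ∀ i j, d i j = d j i) :
    (∏ i, ∏ j with r i j, d i j) ^ 2 = ∏ i, ∏ j with i ≠ j, d i j := by
  simp only [prod_filter, sq]
  nth_rewrite 2 [prod_comm]
  simp only [← prod_mul_distrib]
  refine prod_congr rfl fun i _ => prod_congr rfl fun j _ => ?_
  by_cases h1 : r i j
  · rw [if_pos h1, if_neg ((h i j).1 h1).2, if_pos ((h i j).1 h1).1, mul_one]
  by_cases h2 : r j i
  · rw [if_neg h1, if_pos h2, if_pos ((h j i).1 h2).1.symm, one_mul, hd]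
  · rw [if_neg h1, if_neg h2, if_neg fun e => h1 ((h i j).2 ⟨e, h2⟩), one_mul]

theorem X_replicate_one_mul (n : ℕ) : ∀ a : Fin N → ℕ, ∑ i, a i = tri N + n →
    X (Multiset.replicate n 1) a * ∏ i, ((a i).factorial : ℤ) = n.factorial *
      ∑ σ : Perm (Fin N), Perm.sign σ * ∏ i, (descPochhammer ℤ (σ i)).eval (a i : ℤ) := by
  have h0 : ∀ σ : Perm (Fin N), ∑ i, (σ i).val = tri N := fun σ => Equiv.sum_comp σ Fin.val
  induction n with
  | zero =>
    intro a ha
    simp only [Multiset.replicate_zero, X_zero, sum_mul, descPochhammer_eval_eq_descFactorial,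
      Nat.factorial_zero, Nat.cast_one, one_mul]
    refine sum_congr rfl fun σ _ => ?_
    split_ifs with h
    · simp [← h, Nat.descFactorial_self]
    rw [zero_mul, eq_comm, mul_eq_zero, prod_eq_zero_iff]
    by_contra! h1
    refine h (funext fun i => (sum_eq_sum_iff_of_le fun i _ => ?_).1 ((h0 σ).trans ha.symm) i
      (mem_univ i))
    simpa using h1.2 i (mem_univ i)
  | succ n ih =>
    intro a ha
    have h1 : ∀ i, (if 1 ≤ a i then X (Multiset.replicate n 1) (a - Pi.single i 1) else 0) *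
        ∏ j, ((a j).factorial : ℤ) = n.factorial * ∑ σ : Perm (Fin N), Perm.sign σ *
          (((a i : ℤ) - σ i) * ∏ j, (descPochhammer ℤ (σ j)).eval (a j : ℤ)) := fun i => by
      have h2 : ∀ σ : Perm (Fin N), ((a i : ℤ) - σ i) * (descPochhammer ℤ (σ i)).eval (a i : ℤ) =
          a i * (descPochhammer ℤ (σ i)).eval ((a i : ℤ) - 1) := fun σ => by
        rw [mul_comm, ← descPochhammer_succ_eval, descPochhammer_succ_left]; simp
      simp only [← mul_prod_erase _ _ (mem_univ i), ← mul_assoc ((a i : ℤ) - _), h2]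
      split_ifs with h
      swap
      · simp [show a i = 0 by omega]
      have h3 := ih (a - Pi.single i 1) (by have := sum_sub_single h; omega)
      have h4 : ∀ f : Fin N → ℕ → ℤ, ∏ j ∈ univ.erase i, f j ((a - Pi.single i 1 : Fin N → ℕ) j) =
          ∏ j ∈ univ.erase i, f j (a j) := fun f =>
        prod_congr rfl fun j hj => by simp [ne_of_mem_erase hj]
      simp only [← mul_prod_erase _ _ (mem_univ i), h4 fun _ x => (x.factorial : ℤ),
        fun σ : Perm (Fin N) => h4 fun j x => (descPochhammer ℤ (σ j)).eval (x : ℤ)] at h3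
      simp only [Pi.sub_apply, Pi.single_eq_same, Nat.cast_sub h, Nat.cast_one] at h3
      simp only [mul_assoc, mul_left_comm _ (a i : ℤ), ← mul_sum]
      rw [← h3, ← Nat.mul_factorial_pred (show a i ≠ 0 by omega)]
      push_cast
      ring
    rw [Multiset.replicate_succ, X_cons, dn, sum_mul]
    simp only [h1, ← mul_sum]
    rw [sum_comm, Nat.factorial_succ, Nat.cast_mul, mul_comm _ (n.factorial : ℤ), mul_assoc,
      mul_sum (a := ((n + 1 : ℕ) : ℤ))]
    congr 1
    refine sum_congr rfl fun σ _ => ?_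
    rw [← mul_sum, ← sum_mul, sum_sub_distrib, ← Nat.cast_sum, ← Nat.cast_sum, ha, h0]
    push_cast
    ring

/-- The degree formula. -/
theorem X_replicate_one_sq {n : ℕ} {a : Fin N → ℕ} (ha : Function.Injective a)
    (h : ∑ i, a i = tri N + n) : ((X (Multiset.replicate n 1) a).natAbs * ∏ i, (a i).factorial) =
      n.factorial * ∏ i, ∏ j with a j < a i, (a i - a j) := by
  have h1 := X_replicate_one_mul n a h
  have h2 := Matrix.det_eval_matrixOfPolynomials_eq_det_vandermonde (fun i => (a i : ℤ))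
    (fun i => descPochhammer ℤ i) (fun _ => descPochhammer_natDegree ..)
    fun _ => monic_descPochhammer ..
  rw [Matrix.det_vandermonde, ← Matrix.det_transpose, Matrix.det_apply'] at h2
  simp only [Matrix.transpose_apply, Matrix.of_apply, Int.cast_id] at h2
  rw [← h2, ← Nat.cast_prod] at h1
  have h3 := congrArg Int.natAbs h1
  rw [Int.natAbs_mul, Int.natAbs_mul, Int.natAbs_natCast, Int.natAbs_natCast] at h3
  rw [h3]
  congr 1
  have h4 := prod_pairs_sq (r := fun i j : Fin N => i < j) (by omega)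
    (d := fun i j => (a i).dist (a j)) fun _ _ => Nat.dist_comm ..
  rw [← prod_pairs_sq (r := fun i j => a j < a i) (fun i j => by rw [← ha.ne_iff]; omega)
    fun _ _ => Nat.dist_comm .., Nat.pow_left_inj two_ne_zero] at h4
  rw [← Int.natAbsHom_apply, map_prod]
  refine (prod_congr rfl fun i _ => ?_).trans (h4.trans (prod_congr rfl fun i _ =>
    prod_congr rfl fun j hj => Nat.dist_eq_sub_of_le_right (mem_filter.1 hj).2.le))
  rw [map_prod, filter_lt_eq_Ioi]
  exact prod_congr rfl fun j _ => by rw [Int.natAbsHom_apply, Nat.dist]; omega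

theorem factorization_add_le [hp : Fact p.Prime] {d n m m' : ℕ} (hd : d ≠ 0) (hm : m ≠ 0)
    (h : d * m = n * m') (h' : p ^ w * m' ∣ m) : d.factorization p + w ≤ n.factorization p := by
  obtain ⟨c, rfl⟩ := h'
  have h1 : n = d * p ^ w * c := Nat.eq_of_mul_eq_mul_right
    (Nat.pos_of_ne_zero (right_ne_zero_of_mul (left_ne_zero_of_mul hm))) (by rw [← h]; ring)
  rw [h1, Nat.factorization_mul (mul_ne_zero hd (pow_ne_zero _ hp.out.ne_zero))
    (right_ne_zero_of_mul hm), Nat.factorization_mul hd (pow_ne_zero _ hp.out.ne_zero)]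
  simp [hp.out.factorization_self]

/-- The defect of a character is at least its weight. -/
theorem InCls.factorization_add_le [hp : Fact p.Prime] {χ : IrrCharacter (Perm α)}
    (hN : Fintype.card α ≤ N) (hρ : ∀ i, ρ i < p) (h : InCls p w ρ χ) :
    (charDegree χ.1).factorization p + w ≤ (Fintype.card α).factorial.factorization p := by
  obtain ⟨b, h1, h2⟩ := h
  obtain ⟨h3, h4⟩ := inj_of_XF_ne_zero (XF_ne_zero_of_mult h1)
  have h5 : charDegree χ.1 = (X (Multiset.replicate (Fintype.card α) 1) (res p ρ b)).natAbs := by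
    have h5 := congrFun (XF_eq_smul hN h1) 1
    rw [XF, pt_one, Pi.smul_apply, smul_eq_mul, show χ.1 1 = _ from χ.apply_one] at h5
    norm_cast at h5
    rw [h5, Int.natAbs_mul, Int.natAbs_natCast, Int.natAbs_eq_iff_mul_self_eq.2
      (show _ = (1 : ℤ) * 1 from (mult_spec hN h1).1)]
    simp
  choose k hk1 hk2 using fun i => exists_pow_mul_prod_dvd p (res p ρ b i)
    (s := {j | res p ρ b j < res p ρ b i}) h3.injOn fun j hj => (mem_filter.1 hj).2
  refine Sym.factorization_add_le χ.charDegree_pos.ne'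
    (prod_ne_zero_iff.2 fun i _ => Nat.factorial_ne_zero _) (h5 ▸ X_replicate_one_sq h3 h4) ?_
  have h6 : ∑ i, k i = w := by
    rw [← (cinj_of_injective h3).sum_rk'] at h2
    rw [← Nat.add_left_cancel_iff (n := ∑ i, rk ρ b i), ← h2, ← sum_add_distrib]
    refine sum_congr rfl fun i _ => ?_
    have := hk1 i
    rw [res, Nat.add_mul_div_left _ _ hp.out.pos, Nat.div_eq_of_lt (hρ i), zero_add,
      filter_filter] at this
    rw [← this, add_comm, rk]
    refine congrArg _ (congrArg _ (filter_congr fun j _ => ⟨fun ⟨e1, e2⟩ => ?_, fun ⟨e1, e2⟩ => ?_⟩))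
    · simp only [res, e1, Nat.add_sub_add_left, ← Nat.mul_sub, dvd_mul_right, and_true]
      exact Nat.add_lt_add_left (Nat.mul_lt_mul_of_pos_left e2 hp.out.pos) _
    · have e3 := (Nat.modEq_iff_dvd' e1.le).2 e2
      simp only [res, Nat.ModEq, Nat.add_mul_mod_self_left, Nat.mod_eq_of_lt (hρ _)] at e1 e3
      exact ⟨e3, Nat.lt_of_mul_lt_mul_left (a := p) (by omega)⟩
  rw [← h6, ← prod_pow_eq_pow_sum, ← prod_mul_distrib]
  exact prod_dvd_prod_of_dvd _ _ fun i _ => hk2 i

end Cfsg.Sym
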